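import Groth.Agent.Lib.QuotField20.Artin
import Groth.Agent.Lib.GrpQuot20.Group

/-!
# The quotient by a normal subgroup is a group
-/

universe u

set_option autoImplicit false
set_option linter.style.haveILetI false
set_option backward.isDefEq.respectTransparency.types false

open CategoryTheory CategoryTheory.Limits MonoidalCategory CartesianMonoidalCategory MonObj AlgebraicGeometry

noncomputable section

namespace Groth.Agent.QuotField20

variable {S : Scheme.{u}} {F G Q : Over S} [GrpObj F] [GrpObj G] (u : F ⟶ G) [IsMonHom u] [Mono u] {p : G ⟶ Q}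

/-- The quotient by a normal subgroup is a group, and the subgroup is the kernel. -/
theorem exists_grpObj_quotient (hp : IsFppf p) (hpb : IsPullback (QuotFlat20.leftAction u).act (snd F G) p p)
    (hN : AlgGrp.IsNormalHom u) : ∃ _ : GrpObj Q, IsMonHom p ∧ AlgGrp.IsKernel u p := by
  have hright : ∀ {Z : Over S} (z z' : Z ⟶ G), z ≫ p = z' ≫ p ↔ ∃ f : Z ⟶ F, z * (f ≫ u) = z' := by
    intro Z z z'
    rw [quotient_kernel u hpb]
    constructor
    · rintro ⟨f, rfl⟩
      obtain ⟨f', hf'⟩ := hN Z z⁻¹ f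
      exact ⟨f', by rw [← hf']; group⟩
    · rintro ⟨f, rfl⟩
      obtain ⟨f', hf'⟩ := hN Z z f
      exact ⟨f', by rw [← hf']; group⟩
  have key : ∀ {Z : Over S} (w : Z ⟶ G ⊗ F), w ≫ (G ◁ u) ≫ μ[G] = (w ≫ fst G F) * ((w ≫ snd G F) ≫ u) := by
    intro Z w
    rw [Hom.mul_def, ← Category.assoc w (G ◁ u)]
    congr 1
    apply CartesianMonoidalCategory.hom_ext <;> simp
  have hsq : IsPullback ((G ◁ u) ≫ μ[G]) (fst G F) p p := by
    have w : ((G ◁ u) ≫ μ[G]) ≫ p = fst G F ≫ p := by
      refine ((hright (fst G F) _).2 ⟨snd G F, ?_⟩).symm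
      have h := key (𝟙 (G ⊗ F))
      simp only [Category.id_comp] at h
      exact h.symm
    refine ⟨⟨w⟩, ⟨PullbackCone.IsLimit.mk _
      (fun s => lift s.snd ((hright s.snd s.fst).1 s.condition.symm).choose) (fun s => ?_)
      (fun s => lift_fst _ _) fun s m h1 h2 => ?_⟩⟩
    · rw [key, lift_fst, lift_snd]
      exact ((hright s.snd s.fst).1 s.condition.symm).choose_spec
    · rw [key, h2] at h1
      apply CartesianMonoidalCategory.hom_ext
      · rw [h2, lift_fst]
      · rw [lift_snd, ← cancel_mono u]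
        exact mul_left_cancel (h1.trans ((hright s.snd s.fst).1 s.condition.symm).choose_spec.symm)
  have hcov : GrpQuot20.CovFac p.left :=
    ⟨G.left, p.left, 𝟙 _, Category.id_comp _, hp.surj, hp.flat, qcov_of_fppf hp⟩
  obtain ⟨i, hm, -⟩ := GrpQuot20.exists_grpObj u p hcov hsq hN
  refine ⟨i, hm, ?_⟩
  haveI := hm
  have hone : ∀ {Z : Over S}, toUnit Z ≫ η[Q] = (1 : Z ⟶ G) ≫ p := fun {Z} => by
    rw [← Hom.one_def, MonObj.one_comp]
  have w : u ≫ p = toUnit F ≫ η[Q] := by
    rw [hone]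
    exact ((hright (1 : F ⟶ G) u).2 ⟨𝟙 F, by rw [_root_.one_mul, Category.id_comp]⟩).symm
  have ex : ∀ s : PullbackCone p η[Q], ∃ f : s.pt ⟶ F, f ≫ u = s.fst := fun s => by
    obtain ⟨f, hf⟩ := (hright (1 : s.pt ⟶ G) s.fst).1 (by
      rw [← hone, ← toUnit_unique s.snd (toUnit _), s.condition])
    exact ⟨f, by rwa [_root_.one_mul] at hf⟩
  exact ⟨⟨w⟩, ⟨PullbackCone.IsLimit.mk _ (fun s => (ex s).choose) (fun s => (ex s).choose_spec)
    (fun s => toUnit_unique _ _) fun s m h1 _ => (cancel_mono u).1 (h1.trans (ex s).choose_spec.symm)⟩⟩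

end Groth.Agent.QuotField20
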