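import Groth.Agent.Lib.QuotField20.OpenRestr
import Groth.Agent.Lib.FiniteNhd12.Basic
import Groth.Agent.Lib.FlatH4.GenPt
import Mathlib.AlgebraicGeometry.Noetherian

/-!
# An affine quotient near the maximal points of a quasi-compact open
-/

set_option autoImplicit false
set_option linter.style.haveILetI false
set_option backward.isDefEq.respectTransparency.types false
universe u

open CategoryTheory CategoryTheory.Limits AlgebraicGeometry TopologicalSpace

noncomputable section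

namespace Groth.Agent.QuotField20

open Groth.Agent.GrpdB Groth.Agent.GrpQuot

theorem isMaxPt_of_ι {X : Scheme.{u}} (V : X.Opens) {η : X} (hη : FlatH4.IsMaxPt η) (h : η ∈ V) :
    FlatH4.IsMaxPt (⟨η, h⟩ : V.toScheme) := fun y hy => Subtype.ext (hη _ (hy.map continuous_subtype_val))

set_option maxHeartbeats 4000000 in
theorem exists_affine_quotient {S : Scheme.{u}} [AlgebraicGeometry.IsNoetherian S] (G : Grpd.GroupoidScheme S)
    [Mono G.j] [QuasiCompact G.j] [Flat G.s] [LocallyOfFiniteType G.s] [LocallyOfFiniteType G.pU]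
    [QuasiSeparated G.pU] (V : G.U.Opens) [QuasiCompact (V.ι ≫ G.pU)] :
    ∃ (W : G.U.Opens) (Y : Scheme.{u}) (p : W.toScheme ⟶ Y) (q : Y ⟶ S),
      W ≤ V ∧ (∀ η : G.U, FlatH4.IsMaxPt η → η ∈ V → η ∈ W) ∧ IsAffine Y ∧
      Surjective p ∧ Flat p ∧ LocallyOfFinitePresentation p ∧ p ≫ q = W.ι ≫ G.pU ∧
      ∀ {T : Scheme.{u}} (x y : T ⟶ W.toScheme), x ≫ p = y ≫ p ↔
        ∃ r : T ⟶ G.R, r ≫ G.t = x ≫ W.ι ∧ r ≫ G.s = y ≫ W.ι := by
  haveI : LocallyOfFiniteType (openRestr G V).pU := inferInstanceAs (LocallyOfFiniteType (V.ι ≫ G.pU))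
  haveI : QuasiCompact (openRestr G V).pU := inferInstanceAs (QuasiCompact (V.ι ≫ G.pU))
  haveI : Mono (openRestr G V).j := mono_j_openRestr G V
  haveI : LocallyOfFiniteType (openRestr G V).j := by
    haveI : LocallyOfFiniteType ((openRestr G V).j ≫ pullback.snd _ _) := by
      rw [Grpd.GroupoidScheme.j, pullback.lift_snd]
      infer_instance
    exact locallyOfFiniteType_of_comp _ (pullback.snd _ _)
  haveI : LocallyQuasiFinite (openRestr G V).j := lqf_of_mono _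
  haveI : CompactSpace (openRestr G V).R := compactSpace_arrOpen G V
  haveI : IsLocallyNoetherian (openRestr G V).U := LocallyOfFiniteType.isLocallyNoetherian (openRestr G V).pU
  haveI : IsLocallyNoetherian (openRestr G V).R := LocallyOfFiniteType.isLocallyNoetherian (openRestr G V).s
  haveI : AlgebraicGeometry.IsNoetherian (openRestr G V).R := { }
  haveI : QuasiCompact (openRestr G V).s := GrpdDense19.quasiCompact_of_noetherian _
  obtain ⟨W, hW, Y, p, q, hWd, hpq, hps, hpflat, hpfp, hqfp, hqqc, hpb⟩ :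
      ∃ (W : V.toScheme.Opens) (hW : tV G V ⁻¹ᵁ W = sV G V ⁻¹ᵁ W) (Y : Scheme.{u}) (p : W.toScheme ⟶ Y)
        (q : Y ⟶ S), Dense (W : Set V.toScheme) ∧ p ≫ q = W.ι ≫ V.ι ≫ G.pU ∧ Surjective p ∧ Flat p ∧
        LocallyOfFinitePresentation p ∧ LocallyOfFinitePresentation q ∧ QuasiCompact q ∧
        IsPullback ((tV G V).resLE W (sV G V ⁻¹ᵁ W) hW.ge) (sV G V ∣_ W) p p := by
    obtain ⟨W, hW, hWd, Y, p, w, q, -, hpq, hps, -, hpfp, hqfp, hqqc, -, -, hmono⟩ :=
      GrpdDense19.exists_quotient (openRestr G V)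
    obtain ⟨hpb, hpflat⟩ := hmono ‹_›
    exact ⟨W, hW, Y, p, q, hWd, hpq, hps, hpflat, hpfp, hqfp, hqqc, hpb⟩
  haveI : IsLocallyNoetherian V.toScheme := LocallyOfFiniteType.isLocallyNoetherian (V.ι ≫ G.pU)
  -- the affine open at the generic points
  haveI : IsLocallyNoetherian Y := LocallyOfFiniteType.isLocallyNoetherian q
  haveI : CompactSpace Y := QuasiCompact.compactSpace_of_compactSpace q
  haveI : AlgebraicGeometry.IsNoetherian Y := { }
  obtain ⟨U₀, hU₀, hgen⟩ := FiniteNhd12.exists_isAffineOpen_genericPoints (X := Y)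
    NoetherianSpace.finite_irreducibleComponents
  let W' : V.toScheme.Opens := W
  haveI : IsOpenImmersion W'.ι := inferInstance
  haveI : IsOpenImmersion (W'.ι ≫ V.ι) := MorphismProperty.comp_mem @IsOpenImmersion _ _ inferInstance inferInstance
  let jW : (p ⁻¹ᵁ U₀).toScheme ⟶ G.U := (p ⁻¹ᵁ U₀).ι ≫ W'.ι ≫ V.ι
  haveI : IsOpenImmersion jW := MorphismProperty.comp_mem @IsOpenImmersion _ _ inferInstance ‹_›
  let e := jW.isoOpensRange
  have he : e.hom ≫ jW.opensRange.ι = jW := jW.isoOpensRange_hom_ι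
  have he' : e.inv ≫ jW = jW.opensRange.ι := jW.isoOpensRange_inv_comp
  haveI := hps; haveI := hpfp; haveI := hpflat
  haveI : Surjective (p ∣_ U₀) := IsZariskiLocalAtTarget.restrict ‹Surjective p› U₀
  haveI : Flat (p ∣_ U₀) := IsZariskiLocalAtTarget.restrict ‹Flat p› U₀
  haveI : LocallyOfFinitePresentation (p ∣_ U₀) :=
    IsZariskiLocalAtTarget.restrict ‹LocallyOfFinitePresentation p› U₀
  refine ⟨jW.opensRange, U₀.toScheme, e.inv ≫ (p ∣_ U₀), U₀.ι ≫ q, ?_, ?_, hU₀, inferInstance, inferInstance,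
    inferInstance, ?_, fun {T} x y => ?_⟩
  · rintro _ ⟨z, rfl⟩
    exact (W'.ι ((p ⁻¹ᵁ U₀).ι z)).2
  · intro η hη hηV
    have h1 := isMaxPt_of_ι V hη hηV
    have h2 : (⟨η, hηV⟩ : V.toScheme) ∈ W' := h1.mem_of_dense W'.2 hWd
    have h3 := (isMaxPt_of_ι W' h1 h2).map_of_flat p
    have h4 : p ⟨⟨η, hηV⟩, h2⟩ ∈ U₀ := hgen (GrpdDense19.mem_genericPoints_of_forall h3)
    exact ⟨⟨⟨⟨η, hηV⟩, h2⟩, h4⟩, rfl⟩
  · rw [Category.assoc, morphismRestrict_ι_assoc, hpq]
    show e.inv ≫ (p ⁻¹ᵁ U₀).ι ≫ W'.ι ≫ V.ι ≫ G.pU = _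
    rw [← he']
    simp [jW]
  · let x' : T ⟶ W'.toScheme := x ≫ e.inv ≫ (p ⁻¹ᵁ U₀).ι
    let y' : T ⟶ W'.toScheme := y ≫ e.inv ≫ (p ⁻¹ᵁ U₀).ι
    have hx : x' ≫ W'.ι ≫ V.ι = x ≫ jW.opensRange.ι := by rw [← he']; simp only [x', jW, Category.assoc]
    have hy : y' ≫ W'.ι ≫ V.ι = y ≫ jW.opensRange.ι := by rw [← he']; simp only [y', jW, Category.assoc]
    have hiff : x ≫ e.inv ≫ (p ∣_ U₀) = y ≫ e.inv ≫ (p ∣_ U₀) ↔ x' ≫ p = y' ≫ p := by
      rw [← cancel_mono U₀.ι]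
      simp only [Category.assoc, morphismRestrict_ι]
      rfl
    rw [hiff, ← hx, ← hy]
    let RW : (arrOpen G V).toScheme.Opens := sV G V ⁻¹ᵁ W
    let tW : RW.toScheme ⟶ W'.toScheme := (tV G V).resLE W RW hW.ge
    let sW : RW.toScheme ⟶ W'.toScheme := sV G V ∣_ W
    have htW0 : tW ≫ W'.ι = RW.ι ≫ tV G V := Scheme.Hom.resLE_comp_ι _ _
    have hsW0 : sW ≫ W'.ι = RW.ι ≫ sV G V := morphismRestrict_ι _ _
    constructor
    · intro h
      let r : T ⟶ RW.toScheme := hpb.lift x' y' h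
      have r1 : r ≫ tW = x' := hpb.lift_fst x' y' h
      have r2 : r ≫ sW = y' := hpb.lift_snd x' y' h
      refine ⟨r ≫ RW.ι ≫ (arrOpen G V).ι, ?_, ?_⟩
      · rw [Category.assoc, Category.assoc, ← tV_ι, ← reassoc_of% htW0, reassoc_of% r1]
      · rw [Category.assoc, Category.assoc, ← sV_ι, ← reassoc_of% hsW0, reassoc_of% r2]
    · rintro ⟨r, rt, rs⟩
      let r₁ : T ⟶ (arrOpen G V).toScheme := liftV G V r
        (fun z => by rw [← Scheme.Hom.comp_apply]; exact mem_of_comp G V _ (y' ≫ W'.ι) (rs.trans (Category.assoc _ _ _).symm) z)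
        (fun z => by rw [← Scheme.Hom.comp_apply]; exact mem_of_comp G V _ (x' ≫ W'.ι) (rt.trans (Category.assoc _ _ _).symm) z)
      have hr₁ : r₁ ≫ (arrOpen G V).ι = r := liftV_ι _ _ _ _ _
      have e1 : r₁ ≫ sV G V = y' ≫ W'.ι := by
        rw [← cancel_mono V.ι, Category.assoc, Category.assoc, sV_ι, reassoc_of% hr₁, rs]
      have e2 : r₁ ≫ tV G V = x' ≫ W'.ι := by
        rw [← cancel_mono V.ι, Category.assoc, Category.assoc, tV_ι, reassoc_of% hr₁, rt]
      let r₂ : T ⟶ RW.toScheme := IsOpenImmersion.lift RW.ι r₁ (by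
        rintro _ ⟨z, rfl⟩
        rw [Scheme.Opens.range_ι]
        show (sV G V) (r₁ z) ∈ W
        rw [← Scheme.Hom.comp_apply, e1]
        exact (y' z).2)
      have hr₂ : r₂ ≫ RW.ι = r₁ := IsOpenImmersion.lift_fac _ _ _
      have f1 : r₂ ≫ sW = y' := by rw [← cancel_mono W'.ι, Category.assoc, hsW0, reassoc_of% hr₂, e1]
      have f2 : r₂ ≫ tW = x' := by rw [← cancel_mono W'.ι, Category.assoc, htW0, reassoc_of% hr₂, e2]
      rw [← f1, ← f2, Category.assoc, Category.assoc]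
      exact congrArg (r₂ ≫ ·) hpb.w

end Groth.Agent.QuotField20
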