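import Groth.Agent.Lib.QuotField20.Fppf
import Groth.Agent.Lib.AlgSpace.SchemeQuot
import Groth.Agent.Lib.GrpQuot.Invariant
import Groth.Agent.Lib.GrpQuot.FppfQuot
import Groth.Agent.Lib.AlgGrpBasic19.Basic

/-!
# Descent of a quotient of a saturated open along a finite flat base extension

If the preimage in `X ⊗ T` of an orbit lies in a saturated open with an affine fppf quotient, then
the orbit has a saturated neighbourhood in `X` with an fppf quotient.
-/

universe u

set_option autoImplicit false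
set_option linter.style.haveILetI false
set_option backward.isDefEq.respectTransparency.types false

open CategoryTheory CategoryTheory.Limits MonoidalCategory CartesianMonoidalCategory MonObj AlgebraicGeometry
open TopologicalSpace

noncomputable section

namespace Groth.Agent.QuotField20

variable {S : Scheme.{u}} {F X T : Over S} [GrpObj F]

/-- The opposite of the swap of the two extensions. -/
def swapT (D : Over S) (j : D ⟶ X ⊗ T) : D ⊗ T ⟶ X ⊗ T := lift (fst D T ≫ j ≫ fst X T) (snd D T)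

set_option maxHeartbeats 1000000 in
/-- Descent of a quotient along a finite flat extension of the base. -/
theorem exists_quot_nhd (a : AlgGrp.Action F X)
    (hfree : ∀ {Z : Over S} (f f' : Z ⟶ F) (x : Z ⟶ X), lift f x ≫ a.act = lift f' x ≫ a.act → f = f')
    [Surjective T.hom] [Flat T.hom] [LocallyOfFinitePresentation T.hom] [IsFinite T.hom]
    {D Y : Over S} (j : D ⟶ X ⊗ T) [IsOpenImmersion j.left] (q : D ⟶ Y) (π : Y ⟶ T) [IsAffine Y.left]
    (hq : IsFppf q) (hπ : q ≫ π = j ≫ snd X T)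
    (hker : ∀ {Z : Over S} (z z' : Z ⟶ D), z ≫ q = z' ≫ q ↔
      ∃ f : Z ⟶ F, lift f (z ≫ j ≫ fst X T) ≫ a.act = z' ≫ j ≫ fst X T ∧ z ≫ j ≫ snd X T = z' ≫ j ≫ snd X T)
    (hsat : ∀ v : (F ⊗ (X ⊗ T)).left,
      ((α_ F X T).inv ≫ (a.act ▷ T)).left v ∈ Set.range j.left ↔ (snd F (X ⊗ T)).left v ∈ Set.range j.left)
    (x : X.left) (hx : ∀ w : (X ⊗ T).left, (fst X T).left w = x → w ∈ Set.range j.left) :
    ∃ (O : X.left.Opens) (M : Over S) (p : sub X O ⟶ M), x ∈ O ∧ IsFppf p ∧
      (∀ r : (F ⊗ X).left, a.act.left r ∈ O ↔ (snd F X).left r ∈ O) ∧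
      (∀ {Z : Over S} (z z' : Z ⟶ sub X O), z ≫ p = z' ≫ p ↔
        ∃ f : Z ⟶ F, lift f (z ≫ inc X O) ≫ a.act = z' ≫ inc X O) := by
  -- the open of points whose fibre lies in the chart
  have hfin : IsFinite (fst X T).left :=
    MorphismProperty.of_isPullback (IsPullback.of_hasPullback X.hom T.hom).flip ‹IsFinite T.hom›
  let O : X.left.Opens := ⟨((fst X T).left '' (Set.range j.left)ᶜ)ᶜ,
    ((fst X T).left.isClosedMap _ j.left.isOpenEmbedding.isOpen_range.isClosed_compl).isOpen_compl⟩
  have hO : ∀ y : X.left, y ∈ O ↔ ∀ w : (X ⊗ T).left, (fst X T).left w = y → w ∈ Set.range j.left := fun y =>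
    ⟨fun h w hw => by_contra fun hn => h ⟨w, hn, hw⟩, fun h ⟨w, hn, hw⟩ => hn (h w hw)⟩
  have hOx : x ∈ O := (hO x).2 hx
  -- stability
  let σ : F ⊗ X ⟶ F ⊗ X := lift (fst F X) a.act
  have hOst : ∀ r : (F ⊗ X).left, a.act.left r ∈ O ↔ (snd F X).left r ∈ O := by
    have key : ∀ r : (F ⊗ X).left, (snd F X).left r ∈ O → a.act.left r ∈ O := by
      intro r hr
      refine (hO _).2 fun w hw => ?_
      -- a point of F ⊗ (X ⊗ T) over `σ r` and `w`
      obtain ⟨v, hv1, hv2⟩ := Scheme.exists_preimage_of_isPullback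
        (isPullback_whiskerRight_left (snd F X) T) w (σ.left r) (by
          rw [← left_comp_apply, lift_snd]; exact hw)
      let v' := (α_ F X T).hom.left v
      let inv' : F ⊗ (X ⊗ T) ⟶ F ⊗ (X ⊗ T) :=
        lift (fst F (X ⊗ T)) (lift (lift (fst F (X ⊗ T))⁻¹ (snd F (X ⊗ T) ≫ fst X T) ≫ a.act) (snd F (X ⊗ T) ≫ snd X T))
      have e1 : inv' ≫ (α_ F X T).inv ≫ (a.act ▷ T) = snd F (X ⊗ T) := by
        apply CartesianMonoidalCategory.hom_ext
        · simp only [Category.assoc, whiskerRight_fst]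
          have h2 : inv' ≫ (α_ F X T).inv ≫ fst (F ⊗ X) T =
              lift (fst F (X ⊗ T)) (lift (fst F (X ⊗ T))⁻¹ (snd F (X ⊗ T) ≫ fst X T) ≫ a.act) := by
            apply CartesianMonoidalCategory.hom_ext <;> simp [inv']
          rw [reassoc_of% h2, ← AlgGrpBasic19.act_mul, mul_inv_cancel, AlgGrpBasic19.act_one]
        · simp [inv']
      have h3 : inv'.left v' ∈ ((α_ F X T).inv ≫ (a.act ▷ T)).left ⁻¹' Set.range j.left := by
        rw [Set.mem_preimage, hsat]
        refine (hO _).1 hr _ ?_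
        rw [← left_comp_apply, ← left_comp_apply]
        have e2 : (inv' ≫ snd F (X ⊗ T)) ≫ fst X T = (α_ F X T).inv ≫ fst (F ⊗ X) T ≫ lift (fst F X)⁻¹ (snd F X) ≫ a.act := by
          simp only [inv', lift_snd, lift_fst, GrpObj.comp_inv, comp_lift_assoc, associator_inv_fst_fst_assoc]
          congr 1
          apply CartesianMonoidalCategory.hom_ext <;> simp [GrpObj.comp_inv]
        rw [← Category.assoc, e2, left_comp_apply, left_comp_apply]
        have e3 : (α_ F X T).inv.left v' = v := by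
          show (α_ F X T).inv.left ((α_ F X T).hom.left v) = v
          rw [← left_comp_apply, Iso.hom_inv_id]; rfl
        rw [e3, hv2, ← left_comp_apply]
        have e4 : σ ≫ lift (fst F X)⁻¹ (snd F X) ≫ a.act = snd F X := by
          simp only [σ, comp_lift_assoc, GrpObj.comp_inv, lift_fst, lift_snd]
          have h0 : lift (fst F X)⁻¹ (lift (fst F X) (snd F X) ≫ a.act) ≫ a.act = snd F X := by
            rw [← AlgGrpBasic19.act_mul, inv_mul_cancel, AlgGrpBasic19.act_one]
          rwa [lift_fst_snd, Category.id_comp] at h0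
        rw [e4]
      rw [Set.mem_preimage, ← left_comp_apply, e1] at h3
      have e5 : (snd F (X ⊗ T)).left v' = w := by
        show (snd F (X ⊗ T)).left ((α_ F X T).hom.left v) = w
        rw [← left_comp_apply, show (α_ F X T).hom ≫ snd F (X ⊗ T) = snd F X ▷ T by
          apply CartesianMonoidalCategory.hom_ext <;> simp]
        exact hv1
      rwa [e5] at h3
    intro r
    refine ⟨fun h => ?_, key r⟩
    have h' := key ((lift (fst F X)⁻¹ a.act).left r) (by
      rw [← left_comp_apply, lift_snd]; exact h)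
    rw [← left_comp_apply] at h'
    have e : lift (fst F X)⁻¹ a.act ≫ a.act = snd F X := by
      have h0 : lift (fst F X)⁻¹ (lift (fst F X) (snd F X) ≫ a.act) ≫ a.act = snd F X := by
        rw [← AlgGrpBasic19.act_mul, inv_mul_cancel, AlgGrpBasic19.act_one]
      rwa [lift_fst_snd, Category.id_comp] at h0
    rw [e] at h'
    exact h'
  -- the preimage in the extension
  haveI : IsOpenImmersion (inc X O).left := inferInstanceAs (IsOpenImmersion O.ι)
  haveI : IsOpenImmersion ((inc X O) ▷ T).left :=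
    MorphismProperty.of_isPullback (isPullback_whiskerRight_left (inc X O) T).flip ‹IsOpenImmersion (inc X O).left›
  obtain ⟨j', hj'⟩ : ∃ j' : (sub X O) ⊗ T ⟶ D, j' ≫ j = (inc X O) ▷ T := by
    let g := IsOpenImmersion.lift j.left ((inc X O) ▷ T).left (by
      rintro _ ⟨z, rfl⟩
      refine (hO _).1 ?_ _ rfl
      rw [← left_comp_apply, whiskerRight_fst, left_comp_apply]
      exact ((fst (sub X O) T).left z).2)
    refine ⟨Over.homMk g ?_, Over.OverMorphism.ext (IsOpenImmersion.lift_fac _ _ _)⟩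
    rw [← Over.w j, IsOpenImmersion.lift_fac_assoc, Over.w]
  haveI : Mono j := haveI : Mono j.left := inferInstance; Over.mono_of_mono_left j
  haveI : IsOpenImmersion j'.left := by
    haveI : IsOpenImmersion (j'.left ≫ j.left) := by rw [← Over.comp_left, hj']; infer_instance
    exact IsOpenImmersion.of_comp j'.left j.left
  have hrange : ∀ w : D.left, w ∈ Set.range j'.left ↔ (fst X T).left (j.left w) ∈ O := by
    intro w
    constructor
    · rintro ⟨z, rfl⟩
      rw [← left_comp_apply, ← left_comp_apply, ← Category.assoc, hj', whiskerRight_fst,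
        left_comp_apply]
      exact ((fst (sub X O) T).left z).2
    · intro hw
      obtain ⟨z, hz, -⟩ := Scheme.exists_preimage_of_isPullback (isPullback_whiskerRight_left (inc X O) T)
        (j.left w) ⟨_, hw⟩ rfl
      refine ⟨z, j.left.isOpenEmbedding.injective ?_⟩
      rw [← left_comp_apply, hj', hz]
  -- the image in the quotient
  haveI := hq.flat; haveI := hq.lfp; haveI := hq.surj
  let U : Y.left.Opens := ⟨q.left '' Set.range j'.left,
    q.left.isOpenMap _ j'.left.isOpenEmbedding.isOpen_range⟩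
  have hpre : ∀ w : D.left, q.left w ∈ U → w ∈ Set.range j'.left := by
    rintro w ⟨w', hw', he⟩
    obtain ⟨z, hz1, hz2⟩ := Scheme.Pullback.exists_preimage_pullback (f := q.left) (g := q.left) w' w he
    let Z : Over S := Over.mk (pullback.fst q.left q.left ≫ D.hom)
    let z₁ : Z ⟶ D := Over.homMk (pullback.fst q.left q.left) rfl
    let z₂ : Z ⟶ D := Over.homMk (pullback.snd q.left q.left)
      (by show pullback.snd q.left q.left ≫ D.hom = _ ≫ D.hom; rw [← Over.w q, pullback.condition_assoc])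
    obtain ⟨f, hf, -⟩ := (hker z₁ z₂).1 (Over.OverMorphism.ext pullback.condition)
    rw [hrange] at hw' ⊢
    have h1 := congrArg (fun v : Z ⟶ X => v.left z) hf
    rw [show (fst X T).left (j.left w) = (z₂ ≫ j ≫ fst X T).left z by
      rw [left_comp_apply, left_comp_apply]; rw [show z₂.left z = w from hz2]]
    rw [← hf, left_comp_apply, hOst, ← left_comp_apply, lift_snd, left_comp_apply,
      left_comp_apply]
    rw [show z₁.left z = w' from hz1]
    exact hw'
  obtain ⟨q', hq'⟩ := exists_lift_inc Y U (j' ≫ q) fun z =>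
    ⟨j'.left z, ⟨z, rfl⟩, (left_comp_apply _ _ _).symm⟩
  haveI : Mono j' := haveI : Mono j'.left := inferInstance; Over.mono_of_mono_left j'
  have hq'f : IsFppf q' := by
    refine IsFppf.of_isPullback_left (a := j'.left) (b := U.ι) ?_ hq
    refine IsOpenImmersion.isPullback q'.left j'.left U.ι q.left (congrArg CommaMorphism.left hq').symm ?_
    refine Opens.ext ?_
    ext w
    simp only [Scheme.Hom.coe_preimage, Set.mem_preimage, Scheme.Hom.coe_opensRange, Scheme.Opens.range_ι]
    show q.left w ∈ Set.range U.ι ↔ _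
    rw [Scheme.Opens.range_ι]
    exact ⟨fun h => hpre w h, fun h => ⟨w, h, rfl⟩⟩
  let π' : (sub Y U) ⟶ T := inc Y U ≫ π
  have hπ' : q' ≫ π' = snd (sub X O) T := by
    rw [← Category.assoc, hq', Category.assoc, hπ, ← Category.assoc, hj', whiskerRight_snd]
  have hker' : ∀ {Z : Over S} (z z' : Z ⟶ (sub X O) ⊗ T), z ≫ q' = z' ≫ q' ↔
      ∃ f : Z ⟶ F, lift f (z ≫ fst (sub X O) T ≫ (inc X O)) ≫ a.act = z' ≫ fst (sub X O) T ≫ (inc X O) ∧
        z ≫ snd (sub X O) T = z' ≫ snd (sub X O) T := by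
    intro Z z z'
    have e1 : j' ≫ j ≫ fst X T = fst (sub X O) T ≫ (inc X O) := by rw [reassoc_of% hj', whiskerRight_fst]
    have e2 : j' ≫ j ≫ snd X T = snd (sub X O) T := by rw [reassoc_of% hj', whiskerRight_snd]
    have h := hker (z ≫ j') (z' ≫ j')
    simp only [Category.assoc, e1, e2] at h
    rw [← h, ← hq', ← Category.assoc, ← Category.assoc, cancel_mono (inc Y U)]
  -- the transition map
  have hP : IsFppf (q' ▷ T) := hq'f.whiskerRight T
  obtain ⟨t, ht⟩ := hP.exists_desc (lift (fst ((sub X O) ⊗ T) T ≫ fst (sub X O) T) (snd ((sub X O) ⊗ T) T) ≫ q') fun {Z} z z' h => by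
    have h1 := congrArg (· ≫ fst (sub Y U) T) h
    have h2 := congrArg (· ≫ snd (sub Y U) T) h
    simp only [Category.assoc, whiskerRight_fst, whiskerRight_snd] at h1 h2
    rw [← Category.assoc, ← Category.assoc] at h1
    obtain ⟨f, hf, -⟩ := (hker' _ _).1 h1
    rw [← Category.assoc, ← Category.assoc, hker']
    refine ⟨f, ?_, ?_⟩
    · simpa using hf
    · simpa using h2
  have hA : lift (𝟙 (sub Y U)) π' ≫ t = 𝟙 (sub Y U) := by
    haveI := hq'f.epi
    rw [← cancel_epi q', Category.comp_id, ← Category.assoc]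
    have e : q' ≫ lift (𝟙 (sub Y U)) π' = lift (𝟙 ((sub X O) ⊗ T)) (snd (sub X O) T) ≫ (q' ▷ T) := by
      apply CartesianMonoidalCategory.hom_ext <;> simp [hπ']
    rw [e, Category.assoc, ht, ← Category.assoc]
    convert Category.id_comp q' using 2
    apply CartesianMonoidalCategory.hom_ext <;> simp
  have hB : t ≫ π' = snd (sub Y U) T := by
    haveI := hP.epi
    rw [← cancel_epi (q' ▷ T), reassoc_of% ht, hπ', whiskerRight_snd, lift_snd]
  have hD : (t ▷ T) ≫ t = (fst (sub Y U) T ▷ T) ≫ t := by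
    haveI := (hP.whiskerRight T).epi
    rw [← cancel_epi ((q' ▷ T) ▷ T), ← comp_whiskerRight_assoc, ← comp_whiskerRight_assoc, ht, whiskerRight_fst,
      comp_whiskerRight_assoc, comp_whiskerRight_assoc, ht, ← Category.assoc, ← Category.assoc]
    congr 1
    apply CartesianMonoidalCategory.hom_ext <;> simp
  let σ' : (sub Y U) ⊗ T ⟶ (sub Y U) ⊗ T := lift t (fst (sub Y U) T ≫ π')
  have hC : σ' ≫ t = fst (sub Y U) T := by
    have e1 : lift (lift (fst (sub Y U) T) (snd (sub Y U) T)) (fst (sub Y U) T ≫ π') ≫ (t ▷ T) = σ' := by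
      apply CartesianMonoidalCategory.hom_ext <;> simp [σ']
    have e2 : lift (lift (fst (sub Y U) T) (snd (sub Y U) T)) (fst (sub Y U) T ≫ π') ≫ (fst (sub Y U) T ▷ T) =
        fst (sub Y U) T ≫ lift (𝟙 (sub Y U)) π' := by
      apply CartesianMonoidalCategory.hom_ext <;> simp
    rw [← e1, Category.assoc, hD, reassoc_of% e2, hA, Category.comp_id]
  have hrel : AlgSp.IsEqvRel (fst (sub Y U) T) t := by
    refine ⟨fun Z r r' e1 e2 => CartesianMonoidalCategory.hom_ext _ _ e2 ?_, fun Z => ⟨fun z => ?_, ?_, ?_⟩⟩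
    · rw [← hB, ← Category.assoc, e1, Category.assoc]
    · exact ⟨z ≫ lift (𝟙 (sub Y U)) π', by rw [Category.assoc, hA, Category.comp_id],
        by rw [Category.assoc, lift_fst, Category.comp_id]⟩
    · rintro z z' ⟨r, rfl, rfl⟩
      exact ⟨r ≫ σ', by rw [Category.assoc, hC], by rw [Category.assoc, lift_fst]⟩
    · rintro z z' z'' ⟨r, rfl, rfl⟩ ⟨r', h1, rfl⟩
      refine ⟨lift (r' ≫ fst (sub Y U) T) (r ≫ snd (sub Y U) T), ?_, lift_fst _ _⟩
      have e1 : lift r' (r ≫ snd (sub Y U) T) ≫ (t ▷ T) = r := by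
        apply CartesianMonoidalCategory.hom_ext <;> simp [h1]
      have e2 : lift r' (r ≫ snd (sub Y U) T) ≫ (fst (sub Y U) T ▷ T) = lift (r' ≫ fst (sub Y U) T) (r ≫ snd (sub Y U) T) := by
        apply CartesianMonoidalCategory.hom_ext <;> simp
      rw [← e2, Category.assoc, ← hD, reassoc_of% e1]
  haveI hsfl : IsFppf (fst (sub Y U) T) := isFppf_fst (sub Y U) T
  haveI := hsfl.flat; haveI := hsfl.lfp
  haveI : IsFinite (fst (sub Y U) T).left :=
    MorphismProperty.of_isPullback (IsPullback.of_hasPullback (sub Y U).hom T.hom).flip ‹IsFinite T.hom›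
  have hσσ : σ' ≫ σ' = 𝟙 _ := by
    apply CartesianMonoidalCategory.hom_ext
    · simp only [Category.assoc, σ', lift_fst, Category.id_comp]; exact hC
    · simp only [Category.assoc, σ', lift_snd, lift_fst_assoc, Category.id_comp]; exact hB
  haveI : IsIso σ'.left := by
    haveI : IsIso σ' := ⟨σ', hσσ, hσσ⟩
    exact inferInstanceAs (IsIso ((Over.forget S).map σ'))
  haveI : IsFinite t.left := by
    rw [← show σ' ≫ fst (sub Y U) T = t from lift_fst _ _, Over.comp_left]
    infer_instance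
  obtain ⟨M, m, hmfin, hmfl, hmlfp, hmsurj, hmpb, -⟩ := AlgSpace.exists_scheme_quotient hrel (by
    intro Z hZ hne
    obtain ⟨z, hz⟩ := hne
    let P : Set Y.left := U.ι '' (t.left '' ((fst (sub Y U) T).left ⁻¹' {z}))
    have hPfin : P.Finite := (((fst (sub Y U) T).left.finite_preimage_singleton z).image _).image _
    obtain ⟨g, hgU, hgP⟩ := GrpQuot.exists_basicOpen_mem_finite (isAffineOpen_top Y.left) hPfin U le_top
      (by rintro _ ⟨w, -, rfl⟩; exact w.2)
    refine ⟨z, hz, U.ι ⁻¹ᵁ Y.left.basicOpen g, ?_, fun r hr => hgP ⟨t.left r, ⟨r, hr, rfl⟩, rfl⟩⟩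
    exact ((isAffineOpen_top Y.left).basicOpen g).preimage_of_isOpenImmersion U.ι (by rwa [Scheme.Opens.opensRange_ι]))
  have hmF : IsFppf m := ⟨hmsurj, hmfl, hmlfp⟩
  have hmeq : ∀ {Z : Over S} (u u' : Z ⟶ (sub Y U)), u ≫ m = u' ≫ m ↔ ∃ r : Z ⟶ (sub Y U) ⊗ T, r ≫ t = u' ∧ r ≫ fst (sub Y U) T = u := by
    intro Z u u'
    constructor
    · intro h
      obtain ⟨l, h1, h2⟩ := hmpb.exists_lift u'.left u.left (congrArg CommaMorphism.left h).symm
      refine ⟨Over.homMk l ?_, Over.OverMorphism.ext h1, Over.OverMorphism.ext h2⟩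
      rw [← Over.w (fst (sub Y U) T), reassoc_of% h2, Over.w]
    · rintro ⟨r, rfl, rfl⟩
      apply Over.OverMorphism.ext
      simp only [Over.comp_left, Category.assoc, hmpb.w]
  -- descend to the open
  have hfst : IsFppf (fst (sub X O) T) := isFppf_fst (sub X O) T
  obtain ⟨p, hp⟩ := hfst.exists_desc (q' ≫ m) fun {Z} z z' h => by
    rw [← Category.assoc, ← Category.assoc, hmeq]
    refine ⟨lift (z ≫ q') (z' ≫ snd (sub X O) T), ?_, lift_fst _ _⟩
    have e : lift (z ≫ q') (z' ≫ snd (sub X O) T) = lift z (z' ≫ snd (sub X O) T) ≫ (q' ▷ T) := by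
      apply CartesianMonoidalCategory.hom_ext <;> simp
    rw [e, Category.assoc, ht, ← Category.assoc]
    congr 1
    apply CartesianMonoidalCategory.hom_ext
    · simp [h]
    · simp
  have hpF : IsFppf p := hfst.of_comp_left (hp ▸ hq'f.comp hmF)
  refine ⟨O, M, p, hOx, hpF, hOst, ?_⟩
  intro Z z z'
  have hfz : IsFppf (fst Z T) := isFppf_fst Z T
  haveI := hfz.epi
  have hlift : ∀ w : Z ⟶ (sub X O), fst Z T ≫ w = (w ▷ T) ≫ fst (sub X O) T := fun w => (whiskerRight_fst w T).symm
  constructor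
  · intro h
    have h' : ((z ▷ T) ≫ q') ≫ m = ((z' ▷ T) ≫ q') ≫ m := by
      rw [Category.assoc, Category.assoc, ← hp, ← Category.assoc, ← Category.assoc, ← hlift, ← hlift,
        Category.assoc, h, ← Category.assoc]
    obtain ⟨r, hr1, hr2⟩ := (hmeq _ _).1 h'
    have hr3 : r ≫ snd (sub Y U) T = snd Z T := by
      rw [← hB, reassoc_of% hr1, hπ', whiskerRight_snd]
    have hr4 : r = lift (z ▷ T) (snd Z T) ≫ (q' ▷ T) := by
      apply CartesianMonoidalCategory.hom_ext
      · rw [hr2]; simp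
      · rw [hr3]; simp
    have hzq : (z ▷ T) ≫ q' = (z' ▷ T) ≫ q' := by
      rw [← hr1, hr4, Category.assoc, ht, ← Category.assoc]
      congr 1
      apply CartesianMonoidalCategory.hom_ext <;> simp
    obtain ⟨f, hf, -⟩ := (hker' _ _).1 hzq
    have hf' : lift f (fst Z T ≫ z ≫ (inc X O)) ≫ a.act = fst Z T ≫ z' ≫ (inc X O) := by simpa using hf
    obtain ⟨f₀, hf₀⟩ := hfz.exists_desc f fun {W} w w' hw => by
      refine hfree (w ≫ f) (w' ≫ f) (w ≫ fst Z T ≫ z ≫ (inc X O)) ?_
      calc lift (w ≫ f) (w ≫ fst Z T ≫ z ≫ (inc X O)) ≫ a.act = w ≫ fst Z T ≫ z' ≫ (inc X O) := by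
            rw [← comp_lift, Category.assoc, hf']
        _ = w' ≫ fst Z T ≫ z' ≫ (inc X O) := by rw [reassoc_of% hw]
        _ = lift (w' ≫ f) (w ≫ fst Z T ≫ z ≫ (inc X O)) ≫ a.act := by
            rw [reassoc_of% hw, ← comp_lift, Category.assoc, hf']
    refine ⟨f₀, ?_⟩
    rw [← cancel_epi (fst Z T), ← Category.assoc, comp_lift, hf₀]
    exact hf'
  · rintro ⟨f, hf⟩
    rw [← cancel_epi (fst Z T), ← Category.assoc, ← Category.assoc, hlift, hlift, Category.assoc, Category.assoc,
      hp, ← Category.assoc, ← Category.assoc]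
    congr 1
    rw [hker']
    refine ⟨fst Z T ≫ f, ?_, by simp⟩
    rw [← Category.assoc, ← Category.assoc, whiskerRight_fst, whiskerRight_fst, Category.assoc, Category.assoc,
      ← comp_lift, Category.assoc, hf]

end Groth.Agent.QuotField20
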