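import Groth.Agent.Lib.QuotField20.Fppf
import Groth.Agent.Lib.AlgGrpBasic19.Basic

/-!
# The quotient of the saturation of an open
-/

universe u

set_option autoImplicit false
set_option linter.style.haveILetI false
set_option backward.isDefEq.respectTransparency.types false

open CategoryTheory CategoryTheory.Limits MonoidalCategory CartesianMonoidalCategory MonObj AlgebraicGeometry
open TopologicalSpace

noncomputable section

namespace Groth.Agent.QuotField20

variable {S : Scheme.{u}} {A B C : Over S}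

theorem isFppf_of_isIso (e : A ⟶ B) [IsIso e] : IsFppf e :=
  haveI : IsIso e.left := inferInstanceAs (IsIso ((Over.forget S).map e))
  ⟨inferInstance, inferInstance, inferInstance⟩

theorem isPullback_whiskerLeft_left (T : Over S) (P : A ⟶ B) :
    IsPullback (T ◁ P).left (snd T A).left (snd T B).left P.left := by
  have h2 : IsPullback (fst T B).left (snd T B).left T.hom B.hom := IsPullback.of_hasPullback T.hom B.hom
  have e : (T ◁ P).left ≫ (fst T B).left = (fst T A).left := by rw [← Over.comp_left, whiskerLeft_fst]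
  have h1 : IsPullback ((T ◁ P).left ≫ (fst T B).left) (snd T A).left T.hom (P.left ≫ B.hom) := by
    rw [e, Over.w P]
    exact IsPullback.of_hasPullback T.hom A.hom
  exact IsPullback.of_right h1 (by rw [← Over.comp_left, whiskerLeft_snd, Over.comp_left]) h2

theorem isFppf_snd (T A : Over S) [Surjective T.hom] [Flat T.hom] [LocallyOfFinitePresentation T.hom] :
    IsFppf (snd T A) := by
  rw [show snd T A = (β_ T A).hom ≫ fst A T by simp]
  exact (isFppf_of_isIso (β_ T A).hom).comp (isFppf_fst A T)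

theorem isPullback_comp_mono {X Y Z : Scheme.{u}} (f : X ⟶ Y) (i : Y ⟶ Z) [Mono i] :
    IsPullback f (𝟙 X) i (f ≫ i) :=
  ⟨⟨by simp⟩, ⟨PullbackCone.IsLimit.mk _ (fun s => s.snd)
    (fun s => by rw [← cancel_mono i, Category.assoc, s.condition])
    (fun s => Category.comp_id _) fun s m _ h => by rw [← h, Category.comp_id]⟩⟩

theorem surjective_of_grp (F : Over S) [GrpObj F] : Surjective F.hom :=
  ⟨fun s => ⟨η[F].left s, by
    rw [← Scheme.Hom.comp_apply]
    exact congrArg (fun m => m s) (Over.w η[F])⟩⟩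

variable {F X : Over S} [GrpObj F]

/-- The quotient of an open extends to its saturation. -/
theorem exists_saturated_quotient (a : AlgGrp.Action F X) [Flat F.hom] [LocallyOfFinitePresentation F.hom]
    (hfree : ∀ {Z : Over S} (f f' : Z ⟶ F) (x : Z ⟶ X), lift f x ≫ a.act = lift f' x ≫ a.act → f = f')
    (W : X.left.Opens) {Y : Over S} (p : sub X W ⟶ Y) (hp : IsFppf p)
    (hker : ∀ {Z : Over S} (z z' : Z ⟶ sub X W), z ≫ p = z' ≫ p ↔
      ∃ f : Z ⟶ F, lift f (z ≫ inc X W) ≫ a.act = z' ≫ inc X W) :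
    ∃ (O : X.left.Opens) (q : sub X O ⟶ Y), W ≤ O ∧ IsFppf q ∧
      (∀ r : (F ⊗ X).left, a.act.left r ∈ O ↔ (snd F X).left r ∈ O) ∧
      (∀ {Z : Over S} (z z' : Z ⟶ sub X O), z ≫ q = z' ≫ q ↔
        ∃ f : Z ⟶ F, lift f (z ≫ inc X O) ≫ a.act = z' ≫ inc X O) := by
  haveI := surjective_of_grp F
  -- the action is fppf
  let σ : F ⊗ X ≅ F ⊗ X :=
    { hom := lift (fst F X) a.act
      inv := lift (fst F X) (lift (fst F X)⁻¹ (snd F X) ≫ a.act)
      hom_inv_id := by
        apply CartesianMonoidalCategory.hom_ext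
        · simp
        · simp only [Category.assoc, lift_snd, Category.id_comp, comp_lift_assoc, lift_fst, GrpObj.comp_inv]
          have h0 : lift (fst F X)⁻¹ (lift (fst F X) (snd F X) ≫ a.act) ≫ a.act = snd F X := by
            rw [← AlgGrpBasic19.act_mul, inv_mul_cancel, AlgGrpBasic19.act_one]
          rwa [lift_fst_snd, Category.id_comp] at h0
      inv_hom_id := by
        apply CartesianMonoidalCategory.hom_ext
        · simp
        · simp only [Category.assoc, lift_snd, Category.id_comp, comp_lift_assoc, lift_fst]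
          rw [← AlgGrpBasic19.act_mul, mul_inv_cancel, AlgGrpBasic19.act_one] }
  have hact : IsFppf a.act := by
    rw [show a.act = σ.hom ≫ snd F X by simp [σ]]
    haveI : IsIso σ.hom := Iso.isIso_hom σ
    exact (isFppf_of_isIso σ.hom).comp (isFppf_snd F X)
  -- the saturation
  let a0 : F ⊗ sub X W ⟶ X := (F ◁ inc X W) ≫ a.act
  haveI : IsOpenImmersion (inc X W).left := inferInstanceAs (IsOpenImmersion W.ι)
  haveI : IsOpenImmersion (F ◁ inc X W).left :=
    MorphismProperty.of_isPullback (isPullback_whiskerLeft_left F (inc X W)).flip ‹IsOpenImmersion (inc X W).left›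
  haveI := hact.flat
  haveI := hact.lfp
  haveI : Flat a0.left := inferInstanceAs (Flat ((F ◁ inc X W).left ≫ a.act.left))
  haveI : LocallyOfFinitePresentation a0.left :=
    inferInstanceAs (LocallyOfFinitePresentation ((F ◁ inc X W).left ≫ a.act.left))
  let O : X.left.Opens := ⟨Set.range a0.left, a0.left.isOpenMap.isOpen_range⟩
  obtain ⟨a', ha'⟩ := exists_lift_inc X O a0 fun z => ⟨z, rfl⟩
  have hι : a'.left ≫ O.ι = a0.left := congrArg CommaMorphism.left ha'
  have ha'f : IsFppf a' := by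
    have hsq : IsPullback a'.left (𝟙 (F ⊗ sub X W).left) O.ι (a'.left ≫ O.ι) := isPullback_comp_mono a'.left O.ι
    rw [hι] at hsq
    exact ⟨⟨fun o => by
        obtain ⟨z, hz⟩ := o.2
        exact ⟨z, O.ι.isOpenEmbedding.injective (by rw [← Scheme.Hom.comp_apply, hι]; exact hz)⟩⟩,
      MorphismProperty.of_isPullback hsq.flip ‹Flat a0.left›,
      MorphismProperty.of_isPullback hsq.flip ‹LocallyOfFinitePresentation a0.left›⟩
  -- invariance
  have key : ∀ r : (F ⊗ X).left, (snd F X).left r ∈ O → a.act.left r ∈ O := by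
    rintro r ⟨v, hv⟩
    obtain ⟨w, hw1, hw2⟩ := Scheme.exists_preimage_of_isPullback (isPullback_whiskerLeft_left F a0) r v hv.symm
    let m : F ⊗ (F ⊗ sub X W) ⟶ F ⊗ sub X W :=
      lift (fst F (F ⊗ sub X W) * (snd F (F ⊗ sub X W) ≫ fst F (sub X W))) (snd F (F ⊗ sub X W) ≫ snd F (sub X W))
    have hm : m ≫ a0 = (F ◁ a0) ≫ a.act := by
      have e1 : (F ◁ inc X W) = lift (fst F (sub X W)) (snd F (sub X W) ≫ inc X W) := by
        apply CartesianMonoidalCategory.hom_ext <;> simp
      have e2 : (F ◁ a0) = lift (fst F (F ⊗ sub X W)) (snd F (F ⊗ sub X W) ≫ a0) := by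
        apply CartesianMonoidalCategory.hom_ext <;> simp
      rw [e2]
      simp only [a0, m, e1, comp_lift_assoc, lift_fst, lift_snd_assoc, Category.assoc]
      rw [AlgGrpBasic19.act_mul]
    exact ⟨m.left w, by rw [← left_comp_apply, hm, left_comp_apply, hw1]⟩
  have hO : ∀ r : (F ⊗ X).left, a.act.left r ∈ O ↔ (snd F X).left r ∈ O := fun r => by
    refine ⟨fun h => ?_, key r⟩
    have h' := key ((lift (fst F X)⁻¹ a.act).left r) (by rw [← left_comp_apply, lift_snd]; exact h)
    rw [← left_comp_apply] at h'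
    have e : lift (fst F X)⁻¹ a.act ≫ a.act = snd F X := by
      have h0 : lift (fst F X)⁻¹ (lift (fst F X) (snd F X) ≫ a.act) ≫ a.act = snd F X := by
        rw [← AlgGrpBasic19.act_mul, inv_mul_cancel, AlgGrpBasic19.act_one]
      rwa [lift_fst_snd, Category.id_comp] at h0
    rw [e] at h'
    exact h'
  have hWO : W ≤ O := fun x hx => by
    refine ⟨(lift (1 : sub X W ⟶ F) (𝟙 (sub X W))).left ⟨x, hx⟩, ?_⟩
    rw [← left_comp_apply]
    have e : lift (1 : sub X W ⟶ F) (𝟙 (sub X W)) ≫ a0 = inc X W := by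
      have e1 : lift (1 : sub X W ⟶ F) (𝟙 (sub X W)) ≫ (F ◁ inc X W) = lift 1 (inc X W) := by
        apply CartesianMonoidalCategory.hom_ext <;> simp
      rw [← Category.assoc, e1, AlgGrpBasic19.act_one]
    rw [e]
    rfl
  have hcomp : ∀ {Z : Over S} (w : Z ⟶ F ⊗ sub X W),
      w ≫ a' ≫ inc X O = lift (w ≫ fst F (sub X W)) ((w ≫ snd F (sub X W)) ≫ inc X W) ≫ a.act := by
    intro Z w
    rw [ha']
    show w ≫ (F ◁ inc X W) ≫ a.act = _
    rw [← Category.assoc]
    congr 1
    apply CartesianMonoidalCategory.hom_ext <;> simp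
  -- descent of the quotient map
  obtain ⟨q, hq⟩ := ha'f.exists_desc (snd F (sub X W) ≫ p) fun {Z} u v huv => by
    have h := congrArg (· ≫ inc X O) huv
    simp only [Category.assoc, hcomp] at h
    rw [← Category.assoc, ← Category.assoc, hker]
    refine ⟨(v ≫ fst F (sub X W))⁻¹ * (u ≫ fst F (sub X W)), ?_⟩
    rw [AlgGrpBasic19.act_mul]
    simp only [Category.assoc] at h ⊢
    rw [h, ← AlgGrpBasic19.act_mul, inv_mul_cancel, AlgGrpBasic19.act_one]
  have hqf : IsFppf q := ha'f.of_comp_left (by rw [hq]; exact (isFppf_snd F (sub X W)).comp hp)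
  refine ⟨O, q, hWO, hqf, hO, fun {Z} z z' => ?_⟩
  -- a cover with lifts of both points
  have hcov : ∀ {Z : Over S} (z : Z ⟶ sub X O), ∃ (Z' : Over S) (h : Z' ⟶ Z) (w : Z' ⟶ F ⊗ sub X W),
      IsFppf h ∧ w ≫ a' = h ≫ z := fun {Z} z =>
    ⟨pullback z a', pullback.fst z a', pullback.snd z a',
      IsFppf.of_isPullback_left (((IsPullback.of_hasPullback z a').map (Over.forget S))) ha'f,
      pullback.condition.symm⟩
  constructor
  · intro hzz
    obtain ⟨Z₁, h₁, w₁, hh₁, hw₁⟩ := hcov z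
    obtain ⟨Z₂, h₂, w', hh₂, hw'⟩ := hcov (h₁ ≫ z')
    obtain ⟨h, hh, w, hw, hw2⟩ : ∃ h : Z₂ ⟶ Z, IsFppf h ∧ ∃ w : Z₂ ⟶ F ⊗ sub X W,
        w ≫ a' = h ≫ z ∧ w' ≫ a' = h ≫ z' :=
      ⟨h₂ ≫ h₁, hh₂.comp hh₁, h₂ ≫ w₁, by rw [Category.assoc, Category.assoc, hw₁], by rw [hw', Category.assoc]⟩
    have hpp : (w ≫ snd F (sub X W)) ≫ p = (w' ≫ snd F (sub X W)) ≫ p := by
      rw [Category.assoc, ← hq, reassoc_of% hw, Category.assoc, ← hq, reassoc_of% hw2, hzz]
    obtain ⟨f0, hf0⟩ := (hker _ _).1 hpp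
    let f2 : Z₂ ⟶ F := (w' ≫ fst F (sub X W)) * f0 * (w ≫ fst F (sub X W))⁻¹
    have hf2 : lift f2 (h ≫ z ≫ inc X O) ≫ a.act = h ≫ z' ≫ inc X O := by
      rw [← reassoc_of% hw, ← reassoc_of% hw2, hcomp, hcomp, ← AlgGrpBasic19.act_mul]
      simp only [f2, inv_mul_cancel_right]
      rw [AlgGrpBasic19.act_mul, hf0]
    obtain ⟨f, hf⟩ := hh.exists_desc f2 fun {T} u v huv => by
      refine hfree (u ≫ f2) (v ≫ f2) (u ≫ h ≫ z ≫ inc X O) ?_
      calc lift (u ≫ f2) (u ≫ h ≫ z ≫ inc X O) ≫ a.act = u ≫ h ≫ z' ≫ inc X O := by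
            rw [← comp_lift, Category.assoc, hf2]
        _ = v ≫ h ≫ z' ≫ inc X O := by rw [reassoc_of% huv]
        _ = lift (v ≫ f2) (u ≫ h ≫ z ≫ inc X O) ≫ a.act := by
            rw [reassoc_of% huv, ← comp_lift, Category.assoc, hf2]
    refine ⟨f, ?_⟩
    haveI := hh.epi
    rw [← cancel_epi h, ← Category.assoc, comp_lift, hf]
    exact hf2
  · rintro ⟨f, hf⟩
    obtain ⟨Z₁, h, w, hh, hw⟩ := hcov z
    let w' : Z₁ ⟶ F ⊗ sub X W := lift ((h ≫ f) * (w ≫ fst F (sub X W))) (w ≫ snd F (sub X W))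
    have hw' : w' ≫ a' = h ≫ z' := by
      rw [← cancel_mono (inc X O), Category.assoc, hcomp, Category.assoc]
      simp only [w', lift_fst, lift_snd, lift_snd_assoc]
      rw [AlgGrpBasic19.act_mul, ← hcomp, reassoc_of% hw, Category.assoc h, ← hf, ← Category.assoc h (lift _ _),
        comp_lift]
    haveI := hh.epi
    rw [← cancel_epi h, ← reassoc_of% hw, ← reassoc_of% hw', hq]
    simp [w']

end Groth.Agent.QuotField20
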