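import Groth.Agent.Lib.QuotField20.Chart
import Groth.Agent.Lib.QuotField20.Descend
import Groth.Agent.Lib.QuotField20.Dense
import Groth.Agent.Lib.QuotField20.Saturate
import Groth.Agent.Lib.QuotFlat20.Basic
import Groth.Agent.Lib.ProdComp12.Basic
import Groth.Agent.Lib.IndQA12.Basic
import Groth.Agent.Lib.GrpQuot20.OverQuot
import Mathlib.AlgebraicGeometry.Morphisms.Finite

/-!
# Quotient of a group locally of finite type over a field by a subgroup
-/

universe u

set_option autoImplicit false
set_option linter.style.haveILetI false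
set_option backward.isDefEq.respectTransparency.types false

open CategoryTheory CategoryTheory.Limits MonoidalCategory CartesianMonoidalCategory MonObj AlgebraicGeometry
open TopologicalSpace

noncomputable section

namespace Groth.Agent.QuotField20

section Gen

variable {S : Scheme.{u}} {F G : Over S} [GrpObj F] [GrpObj G]
  (u : F ⟶ G) [IsMonHom u]

theorem lift_leftAction {Z : Over S} (f : Z ⟶ F) (x : Z ⟶ G) :
    lift f x ≫ (QuotFlat20.leftAction u).act = (f ≫ u) * x := by
  show lift f x ≫ ((fst F G ≫ u) * snd F G) = _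
  rw [MonObj.comp_mul, lift_fst_assoc, lift_snd]

theorem leftAction_free [Mono u] {Z : Over S} (f f' : Z ⟶ F) (x : Z ⟶ G)
    (h : lift f x ≫ (QuotFlat20.leftAction u).act = lift f' x ≫ (QuotFlat20.leftAction u).act) : f = f' := by
  rw [lift_leftAction, lift_leftAction] at h
  exact (cancel_mono u).1 (mul_right_cancel h)

/-- The shear map. -/
def shear {S : Scheme.{u}} {A : Over S} [GrpObj A] {T : Over S} (g : T ⟶ A) : A ⊗ T ≅ A ⊗ T where
  hom := lift (fst A T * (snd A T ≫ g)) (snd A T)
  inv := lift (fst A T * (snd A T ≫ g)⁻¹) (snd A T)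
  hom_inv_id := by
    apply CartesianMonoidalCategory.hom_ext <;>
      simp [MonObj.comp_mul, GrpObj.comp_inv, _root_.mul_assoc]
  inv_hom_id := by
    apply CartesianMonoidalCategory.hom_ext <;>
      simp [MonObj.comp_mul, GrpObj.comp_inv, _root_.mul_assoc]

theorem prop_leftAction_lift (P : MorphismProperty Scheme.{u}) [P.IsStableUnderBaseChange] [P.RespectsIso]
    (h : P u.left) : P (lift (QuotFlat20.leftAction u).act (snd F G)).left := by
  have e : lift (QuotFlat20.leftAction u).act (snd F G) = (u ▷ G) ≫ (shear (𝟙 G)).hom := by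
    show lift ((fst F G ≫ u) * snd F G) (snd F G) = _
    apply CartesianMonoidalCategory.hom_ext <;> simp [shear, MonObj.comp_mul]
  haveI : IsIso (shear (𝟙 G)).hom.left :=
    inferInstanceAs (IsIso ((Over.forget _).map (shear (𝟙 G)).hom))
  rw [e, Over.comp_left, P.cancel_right_of_respectsIso]
  exact MorphismProperty.of_isPullback (isPullback_whiskerRight_left u G).flip h

/-- Points with equal image in a quotient by translations. -/
theorem quotient_kernel {Q : Over S} {p : G ⟶ Q}
    (hpb : IsPullback (QuotFlat20.leftAction u).act (snd F G) p p) {Z : Over S} (z z' : Z ⟶ G) :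
    z ≫ p = z' ≫ p ↔ ∃ f : Z ⟶ F, (f ≫ u) * z = z' := by
  constructor
  · intro h
    refine ⟨hpb.lift z' z h.symm ≫ fst F G, ?_⟩
    calc ((hpb.lift z' z h.symm ≫ fst F G) ≫ u) * z
        = ((hpb.lift z' z h.symm ≫ fst F G) ≫ u) * (hpb.lift z' z h.symm ≫ snd F G) := by rw [hpb.lift_snd]
      _ = z' := by rw [← lift_leftAction, ← comp_lift, lift_fst_snd, Category.comp_id, hpb.lift_fst]
  · rintro ⟨f, rfl⟩
    rw [← lift_leftAction, Category.assoc, hpb.w, lift_snd_assoc]

/-- A morphism with an open underlying map and surjective covers affine opens by compact opens. -/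
theorem qcov_of_fppf {A B : Over S} {p : A ⟶ B} (hp : IsFppf p) : GrpQuot20.QCov p.left := by
  haveI := hp.surj; haveI := hp.flat; haveI := hp.lfp
  intro V hV
  have : ∀ y : (V : B.left.Opens), ∃ W : A.left.Opens, IsAffineOpen W ∧
      (W : Set A.left) ⊆ p.left ⁻¹' (V : Set B.left) ∧ (y : B.left) ∈ p.left '' (W : Set A.left) := fun y => by
    obtain ⟨z, hz⟩ := p.left.surjective y.1
    obtain ⟨W, hW, hzW, hWV⟩ := exists_isAffineOpen_mem_and_subset
      (show z ∈ p.left ⁻¹ᵁ V by show p.left z ∈ V; rw [hz]; exact y.2)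
    exact ⟨W, hW, hWV, z, hzW, hz⟩
  choose W hW hWV hy using this
  obtain ⟨t, ht⟩ := hV.isCompact.elim_finite_subcover (fun y => p.left '' (W y : Set A.left))
    (fun y => p.left.isOpenMap _ (W y).2) fun y hyV => Set.mem_iUnion.2 ⟨⟨y, hyV⟩, hy ⟨y, hyV⟩⟩
  refine ⟨⨆ y ∈ t, W y, ?_, subset_antisymm ?_ ?_⟩
  · simp only [Opens.coe_iSup]
    exact t.finite_toSet.isCompact_biUnion fun y _ => (hW y).isCompact
  · simp only [Opens.coe_iSup, Set.image_iUnion]
    exact Set.iUnion₂_subset fun y _ => Set.image_subset_iff.2 (hWV y)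
  · simp only [Opens.coe_iSup, Set.image_iUnion]
    exact ht

/-- The quotient by a closed subgroup is separated. -/
theorem isSeparated_quotient {Q : Over S} {p : G ⟶ Q} (hp : IsFppf p)
    (hpb : IsPullback (QuotFlat20.leftAction u).act (snd F G) p p) (hu : IsClosedImmersion u.left) :
    IsSeparated Q.hom := by
  haveI := hp.surj; haveI := hp.flat; haveI := hp.lfp
  refine GrpQuot20.isSeparated_of_v (p := p) p.left (𝟙 _) (Category.id_comp _) (qcov_of_fppf hp) ?_
  have hc := prop_leftAction_lift u @IsClosedImmersion hu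
  have e : lift (pullback.fst p p) (pullback.snd p p) =
      hpb.isoPullback.inv ≫ lift (QuotFlat20.leftAction u).act (snd F G) := by
    apply CartesianMonoidalCategory.hom_ext
    · simp only [Category.assoc, lift_fst, IsPullback.isoPullback_inv_fst]
    · simp only [Category.assoc, lift_snd, IsPullback.isoPullback_inv_snd]
  rw [e, Over.comp_left]
  haveI : IsIso hpb.isoPullback.inv.left := inferInstanceAs (IsIso ((Over.forget _).map hpb.isoPullback.inv))
  exact (MorphismProperty.cancel_left_of_respectsIso @IsClosedImmersion _ _).2 hc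

end Gen

variable {k : Type u} [Field k] {F G : Over (Spec (CommRingCat.of k))} [GrpObj F] [GrpObj G]
  (u : F ⟶ G) [IsMonHom u]

theorem flat_hom (A : Over (Spec (CommRingCat.of k))) : Flat A.hom := ProdComp12.flat_over_field A.hom

variable [LocallyOfFiniteType F.hom] [LocallyOfFiniteType G.hom] [Mono u] [QuasiCompact u.left]

/-- A saturated open with an affine quotient containing the maximal points of a quasi-compact open. -/
theorem exists_saturated_affine (V : G.left.Opens) (hV : IsCompact (V : Set G.left)) :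
    ∃ (D : G.left.Opens) (Y : Over (Spec (CommRingCat.of k))) (p : sub G D ⟶ Y),
      IsAffine Y.left ∧ IsFppf p ∧ (∀ pt : G.left, FlatH4.IsMaxPt pt → pt ∈ V → pt ∈ D) ∧
      (∀ r : (F ⊗ G).left, (QuotFlat20.leftAction u).act.left r ∈ D ↔ (snd F G).left r ∈ D) ∧
      (∀ {Z : Over (Spec (CommRingCat.of k))} (z z' : Z ⟶ sub G D), z ≫ p = z' ≫ p ↔
        ∃ f : Z ⟶ F, lift f (z ≫ inc G D) ≫ (QuotFlat20.leftAction u).act = z' ≫ inc G D) := by
  haveI := flat_hom F
  haveI : LocallyOfFinitePresentation F.hom := LocallyOfFinitePresentation.iff_locallyOfFiniteType.2 ‹_›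
  set a := QuotFlat20.leftAction u with ha
  let GG := ActGrpd19.actGrpd a
  haveI : Mono GG.j := mono_j a (fun f f' x h => leftAction_free u f f' x h)
  haveI : QuasiCompact GG.j := by
    show QuasiCompact (ActGrpd19.actGrpd a).j
    rw [ActGrpd19.j_eq]
    exact prop_leftAction_lift u @QuasiCompact ‹_›
  haveI := surjective_of_grp F
  have hsnd := isFppf_snd F G
  haveI : Flat GG.s := hsnd.flat
  haveI : LocallyOfFiniteType GG.s := haveI := hsnd.lfp; inferInstanceAs (LocallyOfFiniteType (snd F G).left)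
  haveI : LocallyOfFiniteType GG.pU := ‹LocallyOfFiniteType G.hom›
  haveI : QuasiSeparated GG.pU := AlgGrpBasic19.quasiSeparatedSpace (Y := G)
  let V' : GG.U.Opens := V
  haveI : QuasiCompact (V'.ι ≫ GG.pU) := (quasiCompact_iff_compactSpace _).mpr (isCompact_iff_compactSpace.mp hV)
  obtain ⟨W, Y₀, p₀, q₀, -, hmax, hY, hps, hpfl, hpfp, hpq, hker⟩ := exists_affine_quotient GG V'
  let W' : G.left.Opens := W
  let pW : sub G W' ⟶ Over.mk q₀ := Over.homMk p₀ hpq
  have hkW : ∀ {Z : Over (Spec (CommRingCat.of k))} (z z' : Z ⟶ sub G W'), z ≫ pW = z' ≫ pW ↔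
      ∃ f : Z ⟶ F, lift f (z ≫ inc G W') ≫ a.act = z' ≫ inc G W' := by
    intro Z z z'
    constructor
    · intro h
      obtain ⟨r, hr1, hr2⟩ := (hker z'.left z.left).1 (congrArg CommaMorphism.left h.symm)
      let rO : Z ⟶ F ⊗ G := Over.homMk r (by
        rw [← Over.w (snd F G), ← Over.w (z ≫ inc G W'), ← Category.assoc]
        exact congrArg (· ≫ G.hom) hr2)
      refine ⟨rO ≫ fst F G, ?_⟩
      have e2 : rO ≫ snd F G = z ≫ inc G W' := Over.OverMorphism.ext hr2
      rw [← e2, ← comp_lift, lift_fst_snd, Category.comp_id]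
      exact Over.OverMorphism.ext hr1
    · rintro ⟨f, hf⟩
      refine Over.OverMorphism.ext ((hker z'.left z.left).2 ⟨(lift f (z ≫ inc G W')).left, ?_, ?_⟩).symm
      · exact congrArg CommaMorphism.left hf
      · exact congrArg CommaMorphism.left (lift_snd f (z ≫ inc G W'))
  obtain ⟨D, q, hWD, hq, hsat, hkD⟩ :=
    exists_saturated_quotient a (fun f f' x h => leftAction_free u f f' x h) W' pW ⟨hps, hpfl, hpfp⟩ hkW
  exact ⟨D, _, q, hY, hq, fun pt h1 h2 => hWD (hmax pt h1 h2), hsat, hkD⟩

/-- Every closed point has a saturated neighbourhood with a quotient. -/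
theorem exists_nhd_closed (x : G.left) (hx : IsClosed ({x} : Set G.left)) :
    ∃ (O : G.left.Opens) (M : Over (Spec (CommRingCat.of k))) (p : sub G O ⟶ M), x ∈ O ∧ IsFppf p ∧
      (∀ r : (F ⊗ G).left, (QuotFlat20.leftAction u).act.left r ∈ O ↔ (snd F G).left r ∈ O) ∧
      (∀ {Z : Over (Spec (CommRingCat.of k))} (z z' : Z ⟶ sub G O), z ≫ p = z' ≫ p ↔
        ∃ f : Z ⟶ F, lift f (z ≫ inc G O) ≫ (QuotFlat20.leftAction u).act = z' ≫ inc G O) := by
  haveI := AlgGrpBasic19.quasiSeparatedSpace (Y := G)
  haveI : JacobsonSpace G.left := LocallyOfFiniteType.jacobsonSpace G.hom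
  let e₀ : G.left := η[G].left (default : Spec (CommRingCat.of k))
  obtain ⟨V₀, hV₀, he₀, -⟩ := exists_isAffineOpen_mem_and_subset (show e₀ ∈ (⊤ : G.left.Opens) from trivial)
  obtain ⟨Vx, hVx, hxV, -⟩ := exists_isAffineOpen_mem_and_subset (show x ∈ (⊤ : G.left.Opens) from trivial)
  -- a compact set of products
  let m : sub G Vx ⊗ sub G V₀ ⟶ G := (inc G Vx ⊗ₘ inc G V₀) ≫ μ[G]
  haveI hqx : QuasiCompact (sub G Vx).hom :=
    (quasiCompact_iff_compactSpace _).mpr (isCompact_iff_compactSpace.mp hVx.isCompact)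
  haveI hq₀ : QuasiCompact (sub G V₀).hom :=
    (quasiCompact_iff_compactSpace _).mpr (isCompact_iff_compactSpace.mp hV₀.isCompact)
  haveI : CompactSpace (sub G Vx ⊗ sub G V₀).left := by
    haveI : QuasiCompact (fst (sub G Vx) (sub G V₀)).left :=
      MorphismProperty.pullback_fst (sub G Vx).hom (sub G V₀).hom hq₀
    haveI : CompactSpace (sub G Vx).left := isCompact_iff_compactSpace.mp hVx.isCompact
    exact QuasiCompact.compactSpace_of_compactSpace (fst (sub G Vx) (sub G V₀)).left
  obtain ⟨V₁, hV₁, -, hV₁c⟩ := IndQA12.exists_isCompact_open_superset (isCompact_range m.left.continuous) ⊤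
    (fun _ _ => trivial)
  obtain ⟨D, Y, p, hY, hp, hmax, hDsat, hDker⟩ := exists_saturated_affine u V₁ hV₁c
  -- the residue extensions
  have hfinT : ∀ y : G.left, IsClosed ({y} : Set G.left) →
      IsFinite (G.left.fromSpecResidueField y ≫ G.hom) := fun y hy => by
    rw [isClosed_singleton_iff_isClosedImmersion] at hy
    rw [isFinite_iff_locallyOfFiniteType_of_jacobsonSpace]
    infer_instance
  let Tx : Over (Spec (CommRingCat.of k)) := Over.mk (G.left.fromSpecResidueField x ≫ G.hom)
  let xh : Tx ⟶ G := Over.homMk (G.left.fromSpecResidueField x) rfl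
  have hxh : ∀ t : Tx.left, xh.left t = x := fun t => by
    have := Set.mem_range_self (f := G.left.fromSpecResidueField x) t
    rwa [Scheme.range_fromSpecResidueField] at this
  haveI : IsFinite Tx.hom := hfinT x hx
  haveI : LocallyOfFinitePresentation Tx.hom := LocallyOfFinitePresentation.iff_locallyOfFiniteType.2 inferInstance
  haveI : Nonempty Tx.left := inferInstanceAs (Nonempty (Spec (G.left.residueField x)))
  haveI : Surjective Tx.hom := ⟨fun s => ⟨Classical.arbitrary _, Subsingleton.elim _ _⟩⟩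
  haveI := flat_hom Tx
  let orb : Tx ⊗ G ⟶ G := (fst Tx G ≫ xh) * snd Tx G
  haveI : Flat orb.left := by
    let σ : Tx ⊗ G ≅ Tx ⊗ G :=
      { hom := lift (fst Tx G) orb
        inv := lift (fst Tx G) ((fst Tx G ≫ xh)⁻¹ * snd Tx G)
        hom_inv_id := by
          apply CartesianMonoidalCategory.hom_ext <;> simp [orb, MonObj.comp_mul, GrpObj.comp_inv]
        inv_hom_id := by
          apply CartesianMonoidalCategory.hom_ext <;> simp [orb, MonObj.comp_mul, GrpObj.comp_inv] }
    haveI : IsIso σ.hom := Iso.isIso_hom σ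
    have h : IsFppf orb := by
      rw [show orb = σ.hom ≫ snd Tx G by simp [σ]]
      exact (isFppf_of_isIso σ.hom).comp (isFppf_snd Tx G)
    exact h.flat
  haveI hfinsnd : IsFinite (snd Tx G).left := MorphismProperty.pullback_snd Tx.hom G.hom inferInstance
  -- a closed point `g` near the unit with `x g` in the chart
  let O₁ : G.left.Opens := ⟨(V₀ : Set G.left) \ ((snd Tx G).left '' (orb.left ⁻¹' (D : Set G.left))ᶜ),
    V₀.2.sdiff ((snd Tx G).left.isClosedMap _ (D.2.preimage orb.left.continuous).isClosed_compl)⟩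
  have hO₁ne : (O₁ : Set G.left).Nonempty := by
    obtain ⟨gam, hgam, hgame⟩ := FlatH4.exists_isMaxPt_specializes e₀
    have hgamV : gam ∈ V₀ := hgame.mem_open V₀.2 he₀
    refine ⟨gam, hgamV, ?_⟩
    rintro ⟨w, hw, hwgam⟩
    apply hw
    have hwmax : FlatH4.IsMaxPt w := fun y hy => by
      have h1 : (snd Tx G).left y = gam := hgam _ (by
        have := hy.map (snd Tx G).left.continuous
        rwa [hwgam] at this)
      haveI := ((snd Tx G).left.isDiscrete_preimage_singleton gam).to_subtype
      let y' : ↥((snd Tx G).left ⁻¹' {gam}) := ⟨y, h1⟩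
      let w' : ↥((snd Tx G).left ⁻¹' {gam}) := ⟨w, hwgam⟩
      have h2 : y' ⤳ w' := (subtype_specializes_iff y' w').2 hy
      exact congrArg Subtype.val h2.eq
    refine hmax _ (hwmax.map_of_flat orb.left) (hV₁ ?_)
    obtain ⟨xh', hxh'⟩ := exists_lift_inc G Vx xh fun t => by rw [hxh]; exact hxV
    obtain ⟨v, hv, -⟩ := Scheme.exists_preimage_of_isPullback (isPullback_whiskerLeft_left Tx (inc G V₀)) w
      ⟨gam, hgamV⟩ hwgam
    refine ⟨(xh' ▷ sub G V₀).left v, ?_⟩
    rw [← left_comp_apply, ← hv, ← left_comp_apply]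
    congr 2
    simp only [m, orb, MonObj.comp_mul, MonObj.mul_eq_mul, Category.assoc, whiskerLeft_fst_assoc, whiskerLeft_snd,
      tensorHom_fst, tensorHom_snd, whiskerRight_fst_assoc, whiskerRight_snd_assoc, hxh']
  obtain ⟨g, hgO, hgc⟩ := jacobsonSpace_iff_locallyClosed.mp ‹_› (O₁ : Set G.left) hO₁ne O₁.2.isLocallyClosed
  -- the extension
  let T : Over (Spec (CommRingCat.of k)) := Over.mk (G.left.fromSpecResidueField g ≫ G.hom)
  let gh : T ⟶ G := Over.homMk (G.left.fromSpecResidueField g) rfl
  have hgh : ∀ t : T.left, gh.left t = g := fun t => by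
    have := Set.mem_range_self (f := G.left.fromSpecResidueField g) t
    rwa [Scheme.range_fromSpecResidueField] at this
  haveI : IsFinite T.hom := hfinT g hgc
  haveI : LocallyOfFinitePresentation T.hom := LocallyOfFinitePresentation.iff_locallyOfFiniteType.2 inferInstance
  haveI : Nonempty T.left := inferInstanceAs (Nonempty (Spec (G.left.residueField g)))
  haveI : Surjective T.hom := ⟨fun s => ⟨Classical.arbitrary _, Subsingleton.elim _ _⟩⟩
  haveI := flat_hom T
  haveI : IsOpenImmersion (inc G D ▷ T).left :=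
    MorphismProperty.of_isPullback (isPullback_whiskerRight_left (inc G D) T).flip
      (inferInstanceAs (IsOpenImmersion D.ι))
  let e : G ⊗ T ≅ G ⊗ T := shear gh
  haveI : IsIso e.inv.left := inferInstanceAs (IsIso ((Over.forget _).map e.inv))
  let j : sub G D ⊗ T ⟶ G ⊗ T := (inc G D ▷ T) ≫ e.inv
  haveI : IsOpenImmersion j.left :=
    MorphismProperty.comp_mem @IsOpenImmersion (inc G D ▷ T).left e.inv.left inferInstance inferInstance
  haveI : IsAffine (Y ⊗ T).left := by
    haveI := hY
    haveI : IsAffine T.left := inferInstanceAs (IsAffine (Spec (G.left.residueField g)))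
    exact inferInstanceAs (IsAffine (pullback Y.hom T.hom))
  let μ' : G ⊗ T ⟶ G := fst G T * (snd G T ≫ gh)
  have hμ' : e.hom ≫ fst G T = μ' := lift_fst _ _
  have hrange : ∀ w : (G ⊗ T).left, w ∈ Set.range j.left ↔ μ'.left w ∈ D := by
    intro w
    rw [← hμ']
    constructor
    · rintro ⟨v, rfl⟩
      rw [← left_comp_apply, ← Category.assoc, show j ≫ e.hom = inc G D ▷ T by simp [j], whiskerRight_fst,
        left_comp_apply]
      exact ((fst (sub G D) T).left v).2
    · intro h
      rw [left_comp_apply] at h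
      obtain ⟨v, hv, -⟩ := Scheme.exists_preimage_of_isPullback (isPullback_whiskerRight_left (inc G D) T)
        (e.hom.left w) ⟨_, h⟩ rfl
      refine ⟨v, ?_⟩
      show ((inc G D ▷ T) ≫ e.inv).left v = w
      rw [left_comp_apply, hv, ← left_comp_apply, Iso.hom_inv_id]
      rfl
  refine exists_quot_nhd (QuotFlat20.leftAction u) (fun f f' x h => leftAction_free u f f' x h)
    j (p ▷ T) (snd Y T) (hp.whiskerRight T) ?_ ?_ ?_ x ?_
  · simp [j, e, shear]
  · intro Z z z'
    have ej : j ≫ fst G T = (fst (sub G D) T ≫ inc G D) * (snd (sub G D) T ≫ gh)⁻¹ := by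
      simp [j, e, shear, MonObj.comp_mul, GrpObj.comp_inv]
    have ej2 : j ≫ snd G T = snd (sub G D) T := by simp [j, e, shear]
    rw [ej, ej2]
    simp only [MonObj.comp_mul, GrpObj.comp_inv, lift_leftAction]
    constructor
    · intro h
      have h1 : (z ≫ fst _ T) ≫ p = (z' ≫ fst _ T) ≫ p := by
        have := congrArg (· ≫ fst Y T) h
        simpa using this
      have h2 : z ≫ snd _ T = z' ≫ snd _ T := by
        have := congrArg (· ≫ snd Y T) h
        simpa using this
      obtain ⟨f, hf⟩ := (hDker _ _).1 h1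
      rw [lift_leftAction, Category.assoc, Category.assoc] at hf
      refine ⟨f, ?_, h2⟩
      rw [← _root_.mul_assoc, hf, reassoc_of% h2]
    · rintro ⟨f, hf, h2⟩
      rw [← _root_.mul_assoc, reassoc_of% h2] at hf
      have h1 : (z ≫ fst _ T) ≫ p = (z' ≫ fst _ T) ≫ p := (hDker _ _).2 ⟨f, by
        rw [lift_leftAction, Category.assoc, Category.assoc]
        exact mul_right_cancel hf⟩
      apply CartesianMonoidalCategory.hom_ext
      · simpa using h1
      · simpa using h2
  · intro v
    rw [hrange, hrange, ← left_comp_apply, ← left_comp_apply]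
    have e1 : ((α_ F G T).inv ≫ ((QuotFlat20.leftAction u).act ▷ T)) ≫ μ' = (F ◁ μ') ≫ (QuotFlat20.leftAction u).act := by
      show ((α_ F G T).inv ≫ (((fst F G ≫ u) * snd F G) ▷ T)) ≫ μ' = (F ◁ μ') ≫ ((fst F G ≫ u) * snd F G)
      simp [μ', MonObj.comp_mul, _root_.mul_assoc]
    rw [e1, show snd F (G ⊗ T) ≫ μ' = (F ◁ μ') ≫ snd F G by simp, left_comp_apply, left_comp_apply]
    exact hDsat _
  · intro w hw
    rw [hrange]
    obtain ⟨v, hv, -⟩ := Scheme.exists_preimage_of_isPullback (isPullback_whiskerRight_left xh T) w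
      (Classical.arbitrary Tx.left) (by rw [hxh]; exact hw)
    rw [← hv, ← left_comp_apply]
    have e1 : (xh ▷ T) ≫ μ' = (Tx ◁ gh) ≫ orb := by
      simp [μ', orb, MonObj.comp_mul]
    rw [e1, left_comp_apply]
    by_contra h
    refine hgO.2 ⟨_, h, ?_⟩
    rw [← left_comp_apply, whiskerLeft_snd, left_comp_apply, hgh]

/-- The quotient of a group locally of finite type over a field by a subgroup. -/
theorem exists_quotient_field :
    ∃ (Q : Over (Spec (CommRingCat.of k))) (p : G ⟶ Q), IsFppf p ∧
      IsPullback (QuotFlat20.leftAction u).act (snd F G) p p ∧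
      LocallyOfFiniteType Q.hom ∧ (IsClosedImmersion u.left → IsSeparated Q.hom) := by
  haveI : JacobsonSpace G.left := LocallyOfFiniteType.jacobsonSpace G.hom
  obtain ⟨Q, p, hp, hpb⟩ := exists_quotient_of_charts (a := QuotFlat20.leftAction u)
    (fun f f' x h => leftAction_free u f f' x h) fun x => by
      obtain ⟨c, hcx, hcc⟩ := jacobsonSpace_iff_locallyClosed.mp ‹JacobsonSpace G.left› (closure {x})
        ⟨x, subset_closure rfl⟩ isClosed_closure.isLocallyClosed
      obtain ⟨O, M, q, hcO, hq, hsat, hker⟩ := exists_nhd_closed u c hcc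
      exact ⟨O, M, q, (specializes_iff_mem_closure.2 hcx).mem_open O.2 hcO, hq, hsat, fun z z' => hker z z'⟩
  refine ⟨Q, p, hp, hpb, ?_, fun hu => ?_⟩
  · haveI := hp.surj; haveI := hp.flat; haveI := hp.lfp
    haveI : LocallyOfFiniteType (p.left ≫ Q.hom) := by rw [Over.w p]; infer_instance
    exact AlgSpDescent.locallyOfFiniteType_of_fppf_comp p.left Q.hom ‹_› ‹_› ‹_› ‹_›
  · exact isSeparated_quotient u hp hpb hu

end Groth.Agent.QuotField20
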