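import Groth.Agent.Lib.QuotField20.Main
import Groth.Agent.Lib.ThickQuot19.Basic
import Groth.Agent.Lib.DiagGL.Chars
import Groth.Agent.Lib.AlgSpDescent.FppfComp
import Groth.Agent.Lib.AlgSpDescent.SchemeSource

/-!
# Quotient of a group by a flat closed subgroup over an artinian local ring
-/

universe u

set_option autoImplicit false
set_option linter.style.haveILetI false
set_option backward.isDefEq.respectTransparency.types false

open CategoryTheory CategoryTheory.Limits MonoidalCategory CartesianMonoidalCategory MonObj AlgebraicGeometry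
open TopologicalSpace

noncomputable section

namespace Groth.Agent.QuotField20

open DiagGL

variable {A : Type u} [CommRing A] [IsArtinianRing A] [IsLocalRing A]

theorem fl_left {S S' : Scheme.{u}} (φ : S' ⟶ S) (G : Over S) [GrpObj G] {T : Over S'} (x : T ⟶ Red.bc φ G) :
    (fl φ G x).left = x.left ≫ pullback.fst G.hom φ := by
  simp [fl, Adjunction.homEquiv_counit]

theorem subsingleton_spec : Subsingleton ↥(Spec (CommRingCat.of A)) := by
  show Subsingleton (PrimeSpectrum A)
  exact ⟨fun p q => PrimeSpectrum.ext ((IsLocalRing.eq_maximalIdeal inferInstance).trans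
    (IsLocalRing.eq_maximalIdeal inferInstance).symm)⟩

/-- Move a point of the preimage along a second map over the base. -/
def swapTo {U R S' S : Scheme.{u}} (h : U ⟶ S) (i : S' ⟶ S) (f g : R ⟶ U) (hfg : f ≫ h = g ≫ h) :
    pullback g (pullback.fst h i) ⟶ pullback h i :=
  pullback.lift (pullback.fst _ _ ≫ f) (pullback.snd _ _ ≫ pullback.snd h i) (by
    rw [Category.assoc, Category.assoc, hfg, pullback.condition_assoc, pullback.condition])

@[reassoc (attr := simp)]
theorem swapTo_fst {U R S' S : Scheme.{u}} (h : U ⟶ S) (i : S' ⟶ S) (f g : R ⟶ U) (hfg : f ≫ h = g ≫ h) :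
    swapTo h i f g hfg ≫ pullback.fst h i = pullback.fst _ _ ≫ f := pullback.lift_fst _ _ _

@[reassoc (attr := simp)]
theorem swapTo_snd {U R S' S : Scheme.{u}} (h : U ⟶ S) (i : S' ⟶ S) (f g : R ⟶ U) (hfg : f ≫ h = g ≫ h) :
    swapTo h i f g hfg ≫ pullback.snd h i = pullback.snd _ _ ≫ pullback.snd h i := pullback.lift_snd _ _ _

/-- The preimages under two maps over the base of the preimage of a subscheme of the base agree. -/
def swapIso {U R S' S : Scheme.{u}} (h : U ⟶ S) (i : S' ⟶ S) (f g : R ⟶ U) (hfg : f ≫ h = g ≫ h) :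
    pullback g (pullback.fst h i) ≅ pullback f (pullback.fst h i) where
  hom := pullback.lift (pullback.fst _ _) (swapTo h i f g hfg) (swapTo_fst _ _ _ _ _).symm
  inv := pullback.lift (pullback.fst _ _) (swapTo h i g f hfg.symm) (swapTo_fst _ _ _ _ _).symm
  hom_inv_id := by
    apply pullback.hom_ext
    · rw [Category.assoc, pullback.lift_fst, pullback.lift_fst, Category.id_comp]
    · apply pullback.hom_ext
      · simp only [Category.assoc, Category.id_comp, pullback.lift_snd_assoc, swapTo_fst, pullback.lift_fst_assoc]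
        exact pullback.condition
      · simp only [Category.assoc, Category.id_comp, pullback.lift_snd_assoc, swapTo_snd]
  inv_hom_id := by
    apply pullback.hom_ext
    · rw [Category.assoc, pullback.lift_fst, pullback.lift_fst, Category.id_comp]
    · apply pullback.hom_ext
      · simp only [Category.assoc, Category.id_comp, pullback.lift_snd_assoc, swapTo_fst, pullback.lift_fst_assoc]
        exact pullback.condition
      · simp only [Category.assoc, Category.id_comp, pullback.lift_snd_assoc, swapTo_snd]

variable {F G : Over (Spec (CommRingCat.of A))} [GrpObj F] [GrpObj G] (u : F ⟶ G) [IsMonHom u]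
  [LocallyOfFiniteType F.hom] [LocallyOfFiniteType G.hom]

/-- The quotient by a flat closed subgroup over an artinian local ring. -/
theorem exists_quotient_artinian [Flat F.hom] (hu : IsClosedImmersion u.left) :
    ∃ (X : Over (Spec (CommRingCat.of A))) (p : G ⟶ X), IsFppf p ∧
      IsPullback (QuotFlat20.leftAction u).act (snd F G) p p ∧
      IsSeparated X.hom ∧ LocallyOfFiniteType X.hom ∧ (Flat G.hom → Flat X.hom) ∧
      (QuasiCompact G.hom → QuasiCompact X.hom) ∧ (Smooth G.hom → Smooth X.hom) := by
  haveI := subsingleton_spec (A := A)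
  let i : Spec (CommRingCat.of (IsLocalRing.ResidueField A)) ⟶ Spec (CommRingCat.of A) :=
    Spec.map (CommRingCat.ofHom (IsLocalRing.residue A))
  haveI : IsClosedImmersion i := IsClosedImmersion.spec_of_surjective _ IsLocalRing.residue_surjective
  haveI : Surjective i := ⟨fun s => ⟨default, Subsingleton.elim _ _⟩⟩
  haveI : LocallyOfFinitePresentation F.hom := LocallyOfFinitePresentation.iff_locallyOfFiniteType.2 ‹_›
  haveI : Mono u.left := inferInstance
  haveI : Mono u := Over.mono_of_mono_left u
  -- the special fibre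
  let Fk := Red.bc i F
  let Gk := Red.bc i G
  letI : GrpObj Fk := Functor.grpObjObj
  letI : GrpObj Gk := Functor.grpObjObj
  let uk : Fk ⟶ Gk := (Over.pullback i).map u
  haveI : IsMonHom uk := inferInstanceAs (IsMonHom ((Over.pullback i).map u))
  haveI : Mono uk := inferInstanceAs (Mono ((Over.pullback i).map u))
  haveI : LocallyOfFiniteType Fk.hom := inferInstanceAs (LocallyOfFiniteType (pullback.snd F.hom i))
  haveI : LocallyOfFiniteType Gk.hom := inferInstanceAs (LocallyOfFiniteType (pullback.snd G.hom i))
  haveI : IsClosedImmersion uk.left := by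
    have hsq : IsPullback (pullback.fst F.hom i) uk.left u.left (pullback.fst G.hom i) := by
      refine IsPullback.of_bot ?_ ?_ (IsPullback.of_hasPullback G.hom i)
      · have e : uk.left ≫ pullback.snd G.hom i = pullback.snd F.hom i := Over.w uk
        rw [e, Over.w u]
        exact IsPullback.of_hasPullback F.hom i
      · exact (pullback.lift_fst _ _ _).symm
    exact MorphismProperty.of_isPullback hsq hu
  obtain ⟨Qk, pk, hpk, hpbk, -, -⟩ := exists_quotient_field uk
  haveI := hpk.surj; haveI := hpk.flat; haveI := hpk.lfp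
  -- the groupoid
  set a := QuotFlat20.leftAction u with ha
  let GG := ActGrpd19.actGrpd a
  haveI : Mono GG.j := mono_j a (fun f f' x h => leftAction_free u f f' x h)
  haveI := surjective_of_grp F
  have hsnd := isFppf_snd F G
  haveI : Flat GG.s := hsnd.flat
  haveI : LocallyOfFinitePresentation GG.s := hsnd.lfp
  let s₀ : (F ⊗ G).left ⟶ G.left := (snd F G).left
  let t₀ : (F ⊗ G).left ⟶ G.left := a.act.left
  let c₀ : Gk.left ⟶ G.left := pullback.fst G.hom i
  haveI hc₁ : IsClosedImmersion c₀ := MorphismProperty.pullback_fst G.hom i ‹IsClosedImmersion i›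
  haveI hc₂ : Surjective c₀ := MorphismProperty.pullback_fst G.hom i ‹Surjective i›
  have hts : t₀ ≫ G.hom = s₀ ≫ G.hom := (Over.w a.act).trans (Over.w (snd F G)).symm
  let ψ : pullback s₀ c₀ ≅ pullback t₀ c₀ := swapIso G.hom i t₀ s₀ hts
  have hψ : ψ.hom ≫ pullback.fst t₀ c₀ = pullback.fst s₀ c₀ := pullback.lift_fst _ _ _
  let aT : pullback s₀ c₀ ⟶ Gk.left := ψ.hom ≫ pullback.snd t₀ c₀
  let aS : pullback s₀ c₀ ⟶ Gk.left := pullback.snd s₀ c₀
  have haT : aT = swapTo G.hom i t₀ s₀ hts := pullback.lift_snd _ _ _
  -- the kernel pair of the special quotient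
  have hp₀ : IsPullback aT aS pk.left pk.left := by
    have haTsnd : aT ≫ Gk.hom = aS ≫ Gk.hom := by
      rw [haT]; exact pullback.lift_snd _ _ _
    have w : aT ≫ pk.left = aS ≫ pk.left := by
      let Z : Over (Spec (CommRingCat.of (IsLocalRing.ResidueField A))) := Over.mk (aS ≫ Gk.hom)
      let za : Z ⟶ Gk := Over.homMk aT haTsnd
      let zb : Z ⟶ Gk := Over.homMk aS rfl
      let rO : (Over.map i).obj Z ⟶ F ⊗ G := Over.homMk (pullback.fst s₀ c₀) (by
        show pullback.fst s₀ c₀ ≫ (F ⊗ G).hom = (aS ≫ pullback.snd G.hom i) ≫ i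
        rw [← Over.w (snd F G), pullback.condition_assoc, Category.assoc, ← pullback.condition]
        )
      obtain ⟨f, hf⟩ := fl_surjective i F (T := Z) (rO ≫ fst F G)
      have h : (f ≫ uk) * zb = za := by
        apply fl_injective i G
        rw [fl_mul, fl_comp_map, hf]
        have eb : fl i G zb = rO ≫ snd F G := Over.OverMorphism.ext (by
          rw [fl_left]; exact pullback.condition.symm)
        have ea : fl i G za = rO ≫ a.act := Over.OverMorphism.ext (by
          rw [fl_left]
          show aT ≫ pullback.fst G.hom i = _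
          rw [haT]
          exact pullback.lift_fst _ _ _)
        rw [eb, ea, ← lift_leftAction, ← comp_lift, lift_fst_snd, Category.comp_id]
      exact (congrArg CommaMorphism.left ((quotient_kernel uk hpbk zb za).2 ⟨f, h⟩)).symm
    have key : ∀ s : PullbackCone pk.left pk.left, ∃ m : s.pt ⟶ pullback s₀ c₀, m ≫ aT = s.fst ∧ m ≫ aS = s.snd := by
      intro s
      let Z : Over (Spec (CommRingCat.of (IsLocalRing.ResidueField A))) := Over.mk (s.snd ≫ Gk.hom)
      let zy : Z ⟶ Gk := Over.homMk s.snd rfl
      let zx : Z ⟶ Gk := Over.homMk s.fst (by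
        show s.fst ≫ Gk.hom = s.snd ≫ Gk.hom
        rw [← Over.w pk, ← Category.assoc, s.condition, Category.assoc])
      obtain ⟨f, hf⟩ := (quotient_kernel uk hpbk zy zx).1 (Over.OverMorphism.ext s.condition.symm)
      let r : s.pt ⟶ (F ⊗ G).left := (lift (fl i F f) (fl i G zy)).left
      have hrs : r ≫ s₀ = s.snd ≫ c₀ :=
        (congrArg CommaMorphism.left (lift_snd (fl i F f) (fl i G zy))).trans (fl_left i G zy)
      have hrt : r ≫ t₀ = s.fst ≫ c₀ := by
        have h : lift (fl i F f) (fl i G zy) ≫ a.act = fl i G zx := by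
          rw [ha, lift_leftAction, ← hf, fl_mul, fl_comp_map]
        exact (congrArg CommaMorphism.left h).trans (fl_left i G zx)
      refine ⟨pullback.lift r s.snd hrs, ?_, pullback.lift_snd _ _ _⟩
      rw [haT]
      apply pullback.hom_ext
      · simp only [Category.assoc, swapTo_fst, pullback.lift_fst_assoc, c₀]
        exact hrt
      · simp only [Category.assoc, swapTo_snd, pullback.lift_snd_assoc, c₀]
        exact (Over.w zx).symm
    refine ⟨⟨w⟩, ⟨PullbackCone.IsLimit.mk _ (fun s => (key s).choose) (fun s => (key s).choose_spec.1)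
      (fun s => (key s).choose_spec.2) fun s m h1 h2 => ?_⟩⟩
    apply pullback.hom_ext
    · refine @GrpQuot.hom_ext_of_mono_j _ GG _ _ _ _ ?_ ?_
      · have h := congrArg (· ≫ pullback.fst G.hom i) (h1.trans (key s).choose_spec.1.symm)
        have e : aT ≫ pullback.fst G.hom i = pullback.fst s₀ c₀ ≫ t₀ := by
          rw [haT]; exact pullback.lift_fst _ _ _
        simp only [Category.assoc, e] at h
        exact (Category.assoc _ _ _).trans (h.trans (Category.assoc _ _ _).symm)
      · have h := congrArg (· ≫ c₀) (h2.trans (key s).choose_spec.2.symm)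
        have e : aS ≫ c₀ = pullback.fst s₀ c₀ ≫ s₀ := pullback.condition.symm
        simp only [Category.assoc, e] at h
        exact (Category.assoc _ _ _).trans (h.trans (Category.assoc _ _ _).symm)
    · exact h2.trans (key s).choose_spec.2.symm
  obtain ⟨Y, p, hps, hpf, hplfp, hpb⟩ : ∃ (Y : Scheme.{u}) (p : G.left ⟶ Y), Surjective p ∧ Flat p ∧
      LocallyOfFinitePresentation p ∧ IsPullback t₀ s₀ p p :=
    @ThickQuot19.exists_quotient _ GG inferInstance inferInstance inferInstance _ c₀ hc₁ hc₂ ψ hψ _ pk.left hpk.surj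
      hpk.flat hpk.lfp hp₀
  haveI := hps; haveI := hpf; haveI := hplfp
  -- back over the base
  have hdesc : ∀ {Z : Scheme.{u}} (x y : Z ⟶ G.left), x ≫ p = y ≫ p → x ≫ G.hom = y ≫ G.hom := fun x y h => by
    obtain ⟨r, rfl, rfl⟩ : ∃ r, r ≫ t₀ = x ∧ r ≫ s₀ = y := ⟨_, hpb.lift_fst x y h, hpb.lift_snd x y h⟩
    rw [Category.assoc, Category.assoc, hts]
  let q : Y ⟶ Spec (CommRingCat.of A) := EffectiveEpi.desc p G.hom fun x y h => hdesc x y h
  have hpq : p ≫ q = G.hom := EffectiveEpi.fac p G.hom fun x y h => hdesc x y h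
  let pO : G ⟶ Over.mk q := Over.homMk p hpq
  have hpO : IsFppf pO := ⟨hps, hpf, hplfp⟩
  have hpbO : IsPullback a.act (snd F G) pO pO := IsPullback.of_map (Over.forget _) (Over.OverMorphism.ext hpb.w) hpb
  refine ⟨Over.mk q, pO, hpO, hpbO, isSeparated_quotient u hpO hpbO hu, ?_, fun hG => ?_, fun hG => ?_, fun hG => ?_⟩
  · haveI : LocallyOfFiniteType (p ≫ q) := by rw [hpq]; infer_instance
    exact AlgSpDescent.locallyOfFiniteType_of_fppf_comp p q hpf hplfp hps ‹_›
  · haveI : Flat (p ≫ q) := by rw [hpq]; exact hG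
    exact H12.flat_of_comp_of_surjective p q
  · haveI : CompactSpace G.left := (quasiCompact_iff_compactSpace G.hom).mp hG
    haveI : CompactSpace Y := ⟨by
      rw [← p.surjective.range_eq]
      exact isCompact_range p.continuous⟩
    exact (quasiCompact_iff_compactSpace q).mpr inferInstance
  · exact AlgSpDescent.smooth_of_fppf_comp p q hpf hplfp hps (by rw [hpq]; exact hG)

end Groth.Agent.QuotField20
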