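import Groth.Agent.Lib.QuotField20.Fppf
import Groth.Agent.Lib.ActGrpd19.Basic
import Groth.Agent.Lib.GrpdProper19.Glue
import Groth.Agent.Lib.GrpQuot.Restrict

/-!
# Charts from fppf quotients; gluing
-/

universe u

set_option autoImplicit false
set_option linter.style.haveILetI false
set_option backward.isDefEq.respectTransparency.types false

open CategoryTheory CategoryTheory.Limits MonoidalCategory CartesianMonoidalCategory MonObj AlgebraicGeometry
open TopologicalSpace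

noncomputable section

namespace Groth.Agent.QuotField20

open Groth.Agent.GrpQuot Groth.Agent.GrpdB

variable {S : Scheme.{u}} {F X : Over S} [GrpObj F] (a : AlgGrp.Action F X)

theorem mono_j (hfree : ∀ {Z : Over S} (f f' : Z ⟶ F) (x : Z ⟶ X), lift f x ≫ a.act = lift f' x ≫ a.act → f = f') :
    Mono (ActGrpd19.actGrpd a).j := by
  rw [ActGrpd19.j_eq]
  haveI : Mono (lift a.act (snd F X)) := ⟨fun {T} x y h => by
    have h1 := congrArg (· ≫ fst _ _) h
    have h2 := congrArg (· ≫ snd _ _) h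
    simp only [Category.assoc, lift_fst, lift_snd] at h1 h2
    refine CartesianMonoidalCategory.hom_ext _ _ (hfree _ _ (x ≫ snd F X) ?_) h2
    calc lift (x ≫ fst F X) (x ≫ snd F X) ≫ a.act = x ≫ a.act := by rw [← comp_lift, lift_fst_snd, Category.comp_id]
      _ = y ≫ a.act := h1
      _ = lift (y ≫ fst F X) (x ≫ snd F X) ≫ a.act := by rw [h2, ← comp_lift, lift_fst_snd, Category.comp_id]⟩
  exact Over.mono_left_of_mono _

variable {a}

/-- A saturated open with an fppf quotient is a chart, for a general groupoid. -/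
theorem exists_chart_of_pts {B : Scheme.{u}} (G : Grpd.GroupoidScheme B) [Mono G.j] (O : G.U.Opens)
    (hinv : G.s ⁻¹ᵁ O = G.t ⁻¹ᵁ O) {Y : Scheme.{u}} (p : O.toScheme ⟶ Y) [Surjective p] [Flat p]
    [LocallyOfFinitePresentation p] (inv : Inv G O.ι p)
    (hpts : ∀ {T : Scheme.{u}} (x y : T ⟶ O.toScheme), x ≫ p = y ≫ p →
      ∃ r : T ⟶ G.R, r ≫ G.t = x ≫ O.ι ∧ r ≫ G.s = y ≫ O.ι) :
    ∃ c : Chart G, c.W = O ∧
      IsPullback (sO G c.W) (tO G c.W c.inv) c.p c.p ∧ Flat c.p ∧ LocallyOfFinitePresentation c.p := by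
  have w : sO G O ≫ p = tO G O hinv ≫ p :=
    (inv (G.s ⁻¹ᵁ O).ι _ _ (tO_ι G O hinv) (sO_ι G O)).symm
  have key : ∀ s : PullbackCone p p, ∃ r : s.pt ⟶ (G.s ⁻¹ᵁ O).toScheme,
      r ≫ sO G O = s.fst ∧ r ≫ tO G O hinv = s.snd := fun s => by
    obtain ⟨r, h1, h2⟩ := hpts s.snd s.fst s.condition.symm
    refine ⟨liftR G O r (fun z => by rw [← Scheme.Hom.comp_apply, h2]; exact (s.fst z).2), ?_, ?_⟩
    · rw [← cancel_mono O.ι, Category.assoc, sO_ι, liftR_ι_assoc, h2]
    · rw [← cancel_mono O.ι, Category.assoc, tO_ι G O hinv, liftR_ι_assoc, h1]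
  have sq : IsPullback (sO G O) (tO G O hinv) p p :=
    ⟨⟨w⟩, ⟨PullbackCone.IsLimit.mk _ (fun s => (key s).choose) (fun s => (key s).choose_spec.1)
      (fun s => (key s).choose_spec.2) fun s m h1 h2 => restr_ext O hinv _ _
        (h1.trans (key s).choose_spec.1.symm) (h2.trans (key s).choose_spec.2.symm)⟩⟩
  have hQ : IsQuot G O.ι p := by
    refine ⟨inv, p.surjective, p.isOpenMap, fun {K} _ _ x y e => hpts x y e, fun x y e => ?_, ?_⟩
    · obtain ⟨z, h1, h2⟩ := Scheme.exists_preimage_of_isPullback sq y x e.symm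
      refine ⟨(G.s ⁻¹ᵁ O).ι z, ?_, ?_⟩
      · rw [← Scheme.Hom.comp_apply, ← tO_ι G O hinv, Scheme.Hom.comp_apply, h2]
      · rw [← Scheme.Hom.comp_apply, ← sO_ι G O, Scheme.Hom.comp_apply, h1]
    · intro W O' Z g₀ _ k q hsq ψ hψ
      haveI : Flat q := MorphismProperty.of_isPullback hsq.flip ‹Flat p›
      haveI : Surjective q := MorphismProperty.of_isPullback hsq.flip ‹Surjective p›
      haveI : LocallyOfFinitePresentation q := MorphismProperty.of_isPullback hsq.flip ‹LocallyOfFinitePresentation p›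
      have hh : ∀ {Z' : Scheme.{u}} (g₁ g₂ : Z' ⟶ O'), g₁ ≫ q = g₂ ≫ q → g₁ ≫ ψ = g₂ ≫ ψ := by
        intro Z' g₁ g₂ hg
        obtain ⟨r, h1, h2⟩ := hpts (g₁ ≫ k) (g₂ ≫ k) (by
          rw [Category.assoc, Category.assoc, ← hsq.w, reassoc_of% hg])
        exact hψ r g₁ g₂ (by rw [h1, Category.assoc]) (by rw [h2, Category.assoc])
      refine ⟨EffectiveEpi.desc q ψ hh, EffectiveEpi.fac _ _ _, fun g hg => ?_⟩
      haveI := Flat.epi_of_flat_of_surjective q
      rw [← cancel_epi q, hg, EffectiveEpi.fac]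
  let c : Chart G := ⟨O, hinv, Y, p, hQ⟩
  obtain ⟨e, he⟩ := hQ.exists_iso c.isQuot
  refine ⟨c, rfl, ?_, ?_, ?_⟩
  · rw [← he]
    exact sq.of_iso (Iso.refl _) (Iso.refl _) (Iso.refl _) e (by simp; rfl) (by simp; rfl)
      (Category.id_comp (p ≫ e.hom)).symm (Category.id_comp (p ≫ e.hom)).symm
  · rw [← he]; exact MorphismProperty.comp_mem @Flat _ _ ‹Flat p› inferInstance
  · rw [← he]; exact MorphismProperty.comp_mem @LocallyOfFinitePresentation _ _ ‹LocallyOfFinitePresentation p› inferInstance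

/-- A saturated open with an fppf quotient is a chart. -/
theorem exists_chart (hfree : ∀ {Z : Over S} (f f' : Z ⟶ F) (x : Z ⟶ X), lift f x ≫ a.act = lift f' x ≫ a.act → f = f')
    (O : X.left.Opens) (hO : ∀ r : (F ⊗ X).left, a.act.left r ∈ O ↔ (snd F X).left r ∈ O)
    {M : Over S} (p : sub X O ⟶ M) (hp : IsFppf p)
    (hker : ∀ {Z : Over S} (z z' : Z ⟶ sub X O), z ≫ p = z' ≫ p ↔
        ∃ f : Z ⟶ F, lift f (z ≫ inc X O) ≫ a.act = z' ≫ inc X O) :
    ∃ c : Chart (ActGrpd19.actGrpd a), c.W = O ∧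
      IsPullback (sO (ActGrpd19.actGrpd a) c.W) (tO (ActGrpd19.actGrpd a) c.W c.inv) c.p c.p ∧
      Flat c.p ∧ LocallyOfFinitePresentation c.p := by
  set G := ActGrpd19.actGrpd a with hG
  haveI : Mono G.j := mono_j a hfree
  haveI := hp.surj; haveI := hp.flat; haveI := hp.lfp
  have hinv : G.s ⁻¹ᵁ O = G.t ⁻¹ᵁ O := Opens.ext (Set.ext fun r => (hO r).symm)
  have inv : Inv G O.ι p.left := by
    intro T r x y hx hy
    let Z : Over S := Over.mk (r ≫ (F ⊗ X).hom)
    let rO : Z ⟶ F ⊗ X := Over.homMk r rfl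
    let xO : Z ⟶ sub X O := Over.homMk x (by
      show x ≫ O.ι ≫ X.hom = r ≫ (F ⊗ X).hom
      have hx' : x ≫ O.ι = r ≫ a.act.left := hx
      rw [← Over.w a.act, ← Category.assoc, hx']
      exact Category.assoc _ _ _)
    let yO : Z ⟶ sub X O := Over.homMk y (by
      show y ≫ O.ι ≫ X.hom = r ≫ (F ⊗ X).hom
      have hy' : y ≫ O.ι = r ≫ (snd F X).left := hy
      rw [← Over.w (snd F X), ← Category.assoc, hy']
      exact Category.assoc _ _ _)
    have e1 : xO ≫ inc X O = rO ≫ a.act := Over.OverMorphism.ext hx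
    have e2 : yO ≫ inc X O = rO ≫ snd F X := Over.OverMorphism.ext hy
    have h : yO ≫ p = xO ≫ p := (hker yO xO).2 ⟨rO ≫ fst F X, by
      rw [e1, e2, ← comp_lift, lift_fst_snd, Category.comp_id]⟩
    exact (congrArg CommaMorphism.left h).symm
  have hpts : ∀ {T : Scheme.{u}} (x y : T ⟶ O.toScheme), x ≫ p.left = y ≫ p.left →
      ∃ r : T ⟶ G.R, r ≫ G.t = x ≫ O.ι ∧ r ≫ G.s = y ≫ O.ι := by
    intro T x y h
    let Z : Over S := Over.mk (y ≫ (sub X O).hom)
    let yO : Z ⟶ sub X O := Over.homMk y rfl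
    let xO : Z ⟶ sub X O := Over.homMk x (by
      show x ≫ (sub X O).hom = y ≫ (sub X O).hom
      rw [← Over.w p, ← Category.assoc, h, Category.assoc])
    obtain ⟨f, hf⟩ := (hker yO xO).1 (Over.OverMorphism.ext h.symm)
    exact ⟨(lift f (yO ≫ inc X O)).left, congrArg CommaMorphism.left hf,
      congrArg CommaMorphism.left (lift_snd f (yO ≫ inc X O))⟩
  exact @exists_chart_of_pts _ G _ O hinv _ p.left hp.surj hp.flat hp.lfp inv hpts

/-- Glue local quotients. -/
theorem exists_quotient_of_charts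
    (hfree : ∀ {Z : Over S} (f f' : Z ⟶ F) (x : Z ⟶ X), lift f x ≫ a.act = lift f' x ≫ a.act → f = f')
    (h : ∀ x : X.left, ∃ (O : X.left.Opens) (M : Over S) (p : sub X O ⟶ M), x ∈ O ∧ IsFppf p ∧
      (∀ r : (F ⊗ X).left, a.act.left r ∈ O ↔ (snd F X).left r ∈ O) ∧
      (∀ {Z : Over S} (z z' : Z ⟶ sub X O), z ≫ p = z' ≫ p ↔
        ∃ f : Z ⟶ F, lift f (z ≫ inc X O) ≫ a.act = z' ≫ inc X O)) :
    ∃ (Q : Over S) (p : X ⟶ Q), IsFppf p ∧ IsPullback a.act (snd F X) p p := by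
  set G := ActGrpd19.actGrpd a with hG
  haveI : Mono G.j := mono_j a hfree
  have hch : ∀ x : G.U, ∃ c : Chart G, x ∈ c.W ∧ IsPullback (sO G c.W) (tO G c.W c.inv) c.p c.p ∧
      Flat c.p ∧ LocallyOfFinitePresentation c.p := by
    intro x
    obtain ⟨O, M, p, hx, hp, hO, hker⟩ := h x
    obtain ⟨c, hc, h1, h2, h3⟩ := exists_chart hfree O hO p hp hker
    exact ⟨c, hc ▸ hx, h1, h2, h3⟩
  have hcov : ∀ x : G.U, ∃ c : Chart G, x ∈ c.W := fun x => (hch x).imp fun _ h => h.1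
  obtain ⟨q, hq, -⟩ := exists_desc_glued hcov G.pU (by rw [G.t_over, G.s_over])
  have sq := GrpdProper19.isPullback_of_charts hcov fun x =>
    let ⟨c, hc, h1, _⟩ := hch x
    ⟨c, hc, h1⟩
  haveI : Surjective (toGlued hcov) := surjective_toGlued hcov
  haveI : Flat (toGlued hcov) := GrpdProper19.toGlued_of_charts hcov @Flat fun x =>
    let ⟨c, hc, _, h2, _⟩ := hch x
    ⟨c, hc, h2⟩
  haveI : LocallyOfFinitePresentation (toGlued hcov) :=
    GrpdProper19.toGlued_of_charts hcov @LocallyOfFinitePresentation fun x =>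
      let ⟨c, hc, _, _, h3⟩ := hch x
      ⟨c, hc, h3⟩
  let pO : X ⟶ Over.mk q := Over.homMk (toGlued hcov) hq
  exact ⟨Over.mk q, pO, ⟨‹_›, ‹_›, ‹_›⟩, IsPullback.of_map (Over.forget S) (Over.OverMorphism.ext sq.w) sq⟩

end Groth.Agent.QuotField20
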