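import Groth.Agent.Lib.QuotField20.Artin
import Groth.Agent.Lib.GrpHomog20.Apps
import Groth.Agent.Lib.GrpDim20.Basic
import Groth.Agent.Lib.GrpCM20.Basic
import Groth.Agent.Lib.GrpField.Component

/-!
# Components and dimension of the quotient by a subgroup
-/

universe u

set_option autoImplicit false
set_option linter.style.haveILetI false
set_option backward.isDefEq.respectTransparency.types false

open CategoryTheory CategoryTheory.Limits MonoidalCategory CartesianMonoidalCategory MonObj AlgebraicGeometry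
open TopologicalSpace

noncomputable section

namespace Groth.Agent.QuotField20

open Groth.Agent.VarDim (sdim)

theorem isFppf_whiskerLeft {S : Scheme.{u}} {A B : Over S} (T : Over S) {P : A ⟶ B} (hP : IsFppf P) :
    IsFppf (T ◁ P) :=
  .of_isPullback_left (isPullback_whiskerLeft_left T P) hP

section Gen

variable {S : Scheme.{u}} {F G X : Over S} [GrpObj F] [GrpObj G] (u : F ⟶ G) [IsMonHom u] {p : G ⟶ X}

/-- The pullback square from the kernel relation. -/
theorem isPullback_of_kernel [Mono u]
    (h : ∀ {Z : Over S} (z z' : Z ⟶ G), z ≫ p = z' ≫ p ↔ ∃ f : Z ⟶ F, (f ≫ u) * z = z') :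
    IsPullback (QuotFlat20.leftAction u).act (snd F G) p p := by
  have key : ∀ {Z : Over S} (w : Z ⟶ F ⊗ G),
      w ≫ (QuotFlat20.leftAction u).act = ((w ≫ fst F G) ≫ u) * (w ≫ snd F G) := fun w => by
    rw [← lift_leftAction, ← comp_lift, lift_fst_snd, Category.comp_id]
  have w : (QuotFlat20.leftAction u).act ≫ p = snd F G ≫ p := by
    refine ((h (snd F G) _).2 ⟨fst F G, ?_⟩).symm
    have e := key (𝟙 (F ⊗ G))
    simp only [Category.id_comp] at e
    exact e.symm
  refine ⟨⟨w⟩, ⟨PullbackCone.IsLimit.mk _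
    (fun s => lift ((h s.snd s.fst).1 s.condition.symm).choose s.snd) (fun s => ?_)
    (fun s => lift_snd _ _) fun s m h1 h2 => ?_⟩⟩
  · rw [key, lift_fst, lift_snd]
    exact ((h s.snd s.fst).1 s.condition.symm).choose_spec
  · rw [key, h2] at h1
    apply CartesianMonoidalCategory.hom_ext
    · rw [lift_fst, ← cancel_mono u]
      exact mul_right_cancel (h1.trans ((h s.snd s.fst).1 s.condition.symm).choose_spec.symm)
    · rw [lift_snd, h2]

variable (hp : IsFppf p) (hpb : IsPullback (QuotFlat20.leftAction u).act (snd F G) p p)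

include hp hpb in
/-- The group acts on the quotient through right translations, homogeneously. -/
theorem exists_rightAction :
    ∃ a : AlgGrp.Action G X, Surjective (lift a.act (snd G X)).left := by
  haveI := (isFppf_whiskerLeft G hp).epi
  obtain ⟨act, hact⟩ := (isFppf_whiskerLeft G hp).exists_desc ((snd G G * (fst G G)⁻¹) ≫ p) fun {Z} a b hab => by
    have h1 : a ≫ fst G G = b ≫ fst G G := by simpa using congrArg (· ≫ fst G X) hab
    have h2 : (a ≫ snd G G) ≫ p = (b ≫ snd G G) ≫ p := by simpa using congrArg (· ≫ snd G X) hab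
    obtain ⟨f, hf⟩ := (quotient_kernel u hpb _ _).1 h2
    rw [← Category.assoc, ← Category.assoc, quotient_kernel u hpb]
    exact ⟨f, by rw [MonObj.comp_mul, MonObj.comp_mul, GrpObj.comp_inv, GrpObj.comp_inv, ← _root_.mul_assoc, hf, h1]⟩
  have hpt : ∀ {Z : Over S} (g z : Z ⟶ G), lift g (z ≫ p) ≫ act = (z * g⁻¹) ≫ p := by
    intro Z g z
    have e : lift g (z ≫ p) = lift g z ≫ (G ◁ p) := by
      apply CartesianMonoidalCategory.hom_ext <;> simp
    rw [e, Category.assoc, hact, ← Category.assoc, MonObj.comp_mul, GrpObj.comp_inv, lift_fst, lift_snd]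
  let a : AlgGrp.Action G X :=
    { act := act
      one_act := by
        haveI := (isFppf_whiskerLeft (𝟙_ (Over S)) hp).epi
        rw [← cancel_epi (𝟙_ (Over S) ◁ p)]
        have e : (𝟙_ (Over S) ◁ p) ≫ (η[G] ▷ X) = lift (1 : 𝟙_ (Over S) ⊗ G ⟶ G) (snd (𝟙_ (Over S)) G ≫ p) := by
          apply CartesianMonoidalCategory.hom_ext
          · simp [Hom.one_def, toUnit_unique (fst (𝟙_ (Over S)) G) (toUnit _)]
          · simp [leftUnitor_hom]
        rw [reassoc_of% e, hpt, inv_one, _root_.mul_one, leftUnitor_hom, whiskerLeft_snd]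
      mul_act := by
        haveI := (isFppf_whiskerLeft (G ⊗ G) hp).epi
        rw [← cancel_epi ((G ⊗ G) ◁ p)]
        let g : (G ⊗ G) ⊗ G ⟶ G := fst _ _ ≫ fst G G
        let g' : (G ⊗ G) ⊗ G ⟶ G := fst _ _ ≫ snd G G
        let x : (G ⊗ G) ⊗ G ⟶ G := snd _ _
        have e1 : ((G ⊗ G) ◁ p) ≫ (μ[G] ▷ X) = lift (g * g') (x ≫ p) := by
          apply CartesianMonoidalCategory.hom_ext
          · simp only [g, g', Category.assoc, whiskerRight_fst, whiskerLeft_fst_assoc, lift_fst]
            rw [Hom.mul_def, ← comp_lift_assoc, lift_fst_snd, Category.id_comp]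
          · simp [x]
        have e2 : ((G ⊗ G) ◁ p) ≫ (α_ G G X).hom ≫ (G ◁ act) = lift g (lift g' (x ≫ p) ≫ act) := by
          have e3 : ((G ⊗ G) ◁ p) ≫ (α_ G G X).hom = lift g (lift g' (x ≫ p)) := by
            apply CartesianMonoidalCategory.hom_ext
            · simp [g]
            · apply CartesianMonoidalCategory.hom_ext <;> simp [g', x]
          rw [reassoc_of% e3]
          apply CartesianMonoidalCategory.hom_ext <;> simp
        rw [reassoc_of% e1, reassoc_of% e2, hpt, hpt, hpt, mul_inv_rev, _root_.mul_assoc] }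
  refine ⟨a, ?_⟩
  let σ : G ⊗ G ≅ G ⊗ G :=
    { hom := lift (snd G G * (fst G G)⁻¹) (snd G G)
      inv := lift ((fst G G)⁻¹ * snd G G) (snd G G)
      hom_inv_id := by
        apply CartesianMonoidalCategory.hom_ext <;> simp [MonObj.comp_mul, GrpObj.comp_inv]
      inv_hom_id := by
        apply CartesianMonoidalCategory.hom_ext <;> simp [MonObj.comp_mul, GrpObj.comp_inv] }
  have e : (G ◁ p) ≫ lift a.act (snd G X) = σ.hom ≫ (p ▷ G) ≫ (X ◁ p) := by
    apply CartesianMonoidalCategory.hom_ext
    · simp [a, σ, hact]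
    · simp [σ]
  haveI : IsIso σ.hom := Iso.isIso_hom σ
  have h := ((isFppf_of_isIso σ.hom).comp ((hp.whiskerRight G).comp (isFppf_whiskerLeft X hp))).surj
  rw [← e, Over.comp_left] at h
  exact @Surjective.of_comp _ _ _ _ _ h

end Gen

variable {k : Type u} [Field k] {F G X : Over (Spec (CommRingCat.of k))} [GrpObj F] [GrpObj G]
  (u : F ⟶ G) [IsMonHom u] {p : G ⟶ X}
  [LocallyOfFiniteType F.hom] [LocallyOfFiniteType G.hom] [LocallyOfFiniteType X.hom]

set_option maxHeartbeats 1000000 in
/-- Components of the quotient are irreducible, quasi-compact and of the expected dimension. -/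
theorem component_quotient (hp : IsFppf p) (hpb : IsPullback (QuotFlat20.leftAction u).act (snd F G) p p)
    (x : X.left) :
    IsIrreducible (connectedComponent x) ∧ IsCompact (connectedComponent x) ∧
      topologicalKrullDim ↥(connectedComponent x) + topologicalKrullDim ↥F.left = topologicalKrullDim ↥G.left := by
  haveI : IsLocallyNoetherian X.left := LocallyOfFiniteType.isLocallyNoetherian X.hom
  haveI : Surjective p.left := hp.surj
  obtain ⟨a, hΦ⟩ := exists_rightAction u hp hpb
  obtain ⟨M₀, hM₀, hM₀e⟩ := FlatH4.exists_isMaxPt_specializes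
    (η[G].left (IsLocalRing.closedPoint k : Spec (CommRingCat.of k)))
  obtain ⟨M, hM, hMx⟩ := FlatH4.exists_isMaxPt_specializes x
  have hD := GrpHomog20.connectedComponent_eq_closure hM₀ hM₀e a hΦ hM hMx
  refine ⟨hD ▸ isIrreducible_singleton.closure, ?_, ?_⟩
  · obtain ⟨Z, i, hiC, -, hi⟩ := GrpField.exists_closedImmersion_range (isClosed_closure (s := ({M₀} : Set G.left)))
      isIrreducible_singleton.closure
    haveI : CompactSpace Z := ⟨by
      rw [i.isClosedEmbedding.isEmbedding.isCompact_iff, Set.image_univ, hi]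
      exact GrpHomog20.isCompact_component hM₀ hM₀e⟩
    obtain ⟨U, hU, hMU, -⟩ := exists_isAffineOpen_mem_and_subset (X := X.left) (x := M) (U := ⊤) trivial
    haveI : CompactSpace U.toScheme := isCompact_iff_compactSpace.1 hU.isCompact
    haveI : CompactSpace ↥(pullback (i ≫ G.hom) (U.ι ≫ X.hom)) := by
      haveI : QuasiCompact (U.ι ≫ X.hom) := quasiCompact_of_compactSpace _
      exact QuasiCompact.compactSpace_of_compactSpace (pullback.fst (i ≫ G.hom) (U.ι ≫ X.hom))
    let c : pullback (i ≫ G.hom) (U.ι ≫ X.hom) ⟶ (G ⊗ X).left :=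
      pullback.map _ _ G.hom X.hom i U.ι (𝟙 _) (Category.comp_id _) (Category.comp_id _)
    have hc : Set.range c = {z : ↥(G ⊗ X).left | (fst G X).left z ∈ closure ({M₀} : Set G.left) ∧ (snd G X).left z ∈ U} := by
      refine (Scheme.Pullback.range_map _ _ _ _ i U.ι (𝟙 _) _ _).trans ?_
      rw [hi, Scheme.Opens.range_ι]
      rfl
    refine ((isCompact_range c.continuous).image a.act.left.continuous).of_isClosed_subset
      isClosed_connectedComponent fun z hz => ?_
    rw [hc]
    rw [hD] at hz
    exact (GrpHomog20.mem_translates_iff hM₀ hM₀e a hΦ U hM (specializes_iff_mem_closure.2 hz)).2 hMU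
  -- the dimension
  haveI : LocallyOfFiniteType p.left := AlgGrpBasic19.lft_left p
  haveI : IsLocallyNoetherian F.left := LocallyOfFiniteType.isLocallyNoetherian F.hom
  let eF : F.left := η[F].left (IsLocalRing.closedPoint k)
  obtain ⟨d, hd⟩ : ∃ d : ℕ, topologicalKrullDim F.left = (d : WithBot ℕ∞) := by
    obtain ⟨b, hb⟩ := ENat.ne_top_iff_exists.1 (DimF18.coheight_ne_top (X := F.left) eF)
    exact ⟨sdim F.hom eF + b, by rw [← GrpCM20.localDim_eq F eF, DimF18.localDim_eq F.hom hb.symm]⟩
  have hfib : ∀ z : G.left, FlatMor.fibreDimAt p.left z = (d : WithBot ℕ∞) := by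
    intro z
    let w := (lift (1 : G ⟶ F) (𝟙 G)).left z
    have hw : (QuotFlat20.leftAction u).act.left w = z := by
      show (QuotFlat20.leftAction u).act.left ((lift (1 : G ⟶ F) (𝟙 G)).left z) = z
      rw [← left_comp_apply, AlgGrpBasic19.act_one]
      rfl
    haveI : LocallyOfFiniteType ((Over.forget (Spec (CommRingCat.of k))).map p) := ‹LocallyOfFiniteType p.left›
    haveI : LocallyOfFiniteType (snd F G).left :=
      MorphismProperty.pullback_snd (P := @LocallyOfFiniteType) F.hom G.hom inferInstance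
    haveI : LocallyOfFiniteType ((Over.forget (Spec (CommRingCat.of k))).map (snd F G)) := ‹LocallyOfFiniteType (snd F G).left›
    rw [← hw]
    refine (FibDim14.fibreDimAt_baseChange (hpb.map (Over.forget _)) w).symm.trans ?_
    refine (FibDim14.fibreDimAt_baseChange (IsPullback.of_hasPullback F.hom G.hom) w).trans ?_
    rw [GrpDim20.fibreDimAt_point, GrpCM20.localDim_eq F, hd]
  have hsum : ∀ z : G.left, sdim G.hom z = sdim X.hom (p.left z) + FibDim14.rd p.left z := by
    intro z
    have h := VarDim.sdim_comp_eq X.hom p.left z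
    rw [Over.w p] at h
    exact h
  have hle : ∀ z : G.left, FibDim14.rd p.left z ≤ d := by
    intro z
    rw [← p.left.fiberι_asFiber z, FibDim14.rd_fiberι]
    have h := GrpDim20.sdim_le_localDim (FibDim14.toPt p.left (p.left z)) (p.left.asFiber z)
    rw [show FlatMor.localDim _ (p.left.asFiber z) = (d : WithBot ℕ∞) from hfib z] at h
    exact_mod_cast h
  have hex : ∀ z₀ : G.left, ∃ z : G.left, p.left z = p.left z₀ ∧ FibDim14.rd p.left z = d := by
    intro z₀
    by_contra hne
    push Not at hne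
    let Fb := p.left.fiber (p.left z₀)
    have hlt : ∀ z : Fb, sdim (FibDim14.toPt p.left (p.left z₀)) z + 1 ≤ d := by
      intro z
      have hz : p.left (p.left.fiberι (p.left z₀) z) = p.left z₀ :=
        (p.left.range_fiberι (p.left z₀)).subset ⟨z, rfl⟩
      have h1 := hne _ hz
      have h2 := hle (p.left.fiberι (p.left z₀) z)
      rw [FibDim14.rd_fiberι] at h1 h2
      omega
    have h : (d : WithBot ℕ∞) ≤ topologicalKrullDim Fb := by
      rw [← hfib z₀]
      refine iInf_le_of_le ⟨⊤, trivial⟩ ?_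
      exact Topology.IsInducing.subtypeVal.topologicalKrullDim_le
    rw [VarDim.dim_eq_iSup_sdim (FibDim14.toPt p.left (p.left z₀))] at h
    have hd1 : 1 ≤ d := le_trans (Nat.le_add_left 1 _) (hlt (p.left.asFiber z₀))
    have h' : (⨆ z : Fb, ((sdim (FibDim14.toPt p.left (p.left z₀)) z : ℕ) : WithBot ℕ∞)) ≤ ((d - 1 : ℕ) : WithBot ℕ∞) :=
      iSup_le fun z => by
        have := hlt z
        exact_mod_cast (by omega : sdim (FibDim14.toPt p.left (p.left z₀)) z ≤ d - 1)
    have : d ≤ d - 1 := by exact_mod_cast h.trans h'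
    omega
  obtain ⟨z₁, hz₁⟩ := p.left.surjective x
  have hC : irreducibleComponent z₁ ∈ irreducibleComponents G.left :=
    irreducibleComponent_mem_irreducibleComponents z₁
  have hCD : ∀ z ∈ irreducibleComponent z₁, p.left z ∈ connectedComponent x := fun z hz =>
    hz₁ ▸ p.left.continuous.image_connectedComponent_subset z₁ ⟨z, irreducibleComponent_subset_connectedComponent hz, rfl⟩
  rw [hd, OrbitDim19.dim_eq_iSup X.hom isClosed_connectedComponent.isLocallyClosed]
  haveI : Nonempty (connectedComponent x : Set X.left) := ⟨⟨x, mem_connectedComponent⟩⟩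
  have hcoe : (⨆ y : (connectedComponent x : Set X.left), ((sdim X.hom (y : X.left) : ℕ) : WithBot ℕ∞)) =
      ((⨆ y : (connectedComponent x : Set X.left), ((sdim X.hom (y : X.left) : ℕ) : ℕ∞) : ℕ∞) : WithBot ℕ∞) :=
    (WithBot.coe_iSup (OrderTop.bddAbove _)).symm
  refine le_antisymm ?_ ?_
  · rw [hcoe, show ((d : ℕ) : WithBot ℕ∞) = (((d : ℕ) : ℕ∞) : WithBot ℕ∞) from rfl, ← WithBot.coe_add,
      ENat.iSup_add, WithBot.coe_iSup (OrderTop.bddAbove _)]
    refine iSup_le fun y => ?_
    obtain ⟨z₀, hz₀⟩ := p.left.surjective y.1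
    obtain ⟨z, hz, hzd⟩ := hex z₀
    rw [VarDim.dim_eq_iSup_sdim G.hom]
    refine le_iSup_of_le z ?_
    rw [hsum z, hzd, hz, hz₀]
    push_cast
    exact le_rfl
  · rw [← GrpCM20.dim_component G _ hC, OrbitDim19.dim_eq_iSup G.hom isClosed_irreducibleComponent.isLocallyClosed]
    refine iSup_le fun z => ?_
    refine le_trans ?_ (add_le_add (le_iSup_of_le (⟨p.left z, hCD z z.2⟩ : (connectedComponent x : Set X.left)) le_rfl) le_rfl)
    rw [hsum z]
    push_cast
    exact add_le_add le_rfl (by exact_mod_cast hle z)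

end Groth.Agent.QuotField20
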