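import Groth.Agent.Lib.QuotField20.Dim

/-!
# Components and dimension of the quotient over an artinian local ring
-/

universe u

set_option autoImplicit false
set_option linter.style.haveILetI false
set_option backward.isDefEq.respectTransparency.types false

open CategoryTheory CategoryTheory.Limits MonoidalCategory CartesianMonoidalCategory MonObj AlgebraicGeometry

noncomputable section

namespace Groth.Agent.QuotField20

open DiagGL

variable {A : Type u} [CommRing A] [IsArtinianRing A] [IsLocalRing A]

theorem symm_comp {S S' : Scheme.{u}} (φ : S' ⟶ S) {X Y : Over S} {T : Over S'}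
    (x : T ⟶ (Over.pullback φ).obj X) (f : X ⟶ Y) :
    ((Over.mapPullbackAdj φ).homEquiv T Y).symm (x ≫ (Over.pullback φ).map f) =
      ((Over.mapPullbackAdj φ).homEquiv T X).symm x ≫ f :=
  Adjunction.homEquiv_naturality_right_symm _ _ _

set_option maxHeartbeats 1000000 in
/-- Components of the quotient over an artinian local ring. -/
theorem component_quotient_artinian {F G X : Over (Spec (CommRingCat.of A))} [GrpObj F] [GrpObj G]
    (u : F ⟶ G) [IsMonHom u] [Mono u] [LocallyOfFiniteType F.hom] [LocallyOfFiniteType G.hom]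
    [LocallyOfFiniteType X.hom] {p : G ⟶ X} (hp : IsFppf p)
    (hpb : IsPullback (QuotFlat20.leftAction u).act (snd F G) p p) (x : X.left) :
    IsIrreducible (connectedComponent x) ∧ IsCompact (connectedComponent x) ∧
      topologicalKrullDim ↥(connectedComponent x) + topologicalKrullDim ↥F.left = topologicalKrullDim ↥G.left := by
  haveI := subsingleton_spec (A := A)
  let i : Spec (CommRingCat.of (IsLocalRing.ResidueField A)) ⟶ Spec (CommRingCat.of A) :=
    Spec.map (CommRingCat.ofHom (IsLocalRing.residue A))
  haveI : IsClosedImmersion i := IsClosedImmersion.spec_of_surjective _ IsLocalRing.residue_surjective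
  haveI : Surjective i := ⟨fun s => ⟨default, Subsingleton.elim _ _⟩⟩
  let Fk := Red.bc i F
  let Gk := Red.bc i G
  letI : GrpObj Fk := Functor.grpObjObj
  letI : GrpObj Gk := Functor.grpObjObj
  let uk : Fk ⟶ Gk := (Over.pullback i).map u
  let Xk := (Over.pullback i).obj X
  let pk : Gk ⟶ Xk := (Over.pullback i).map p
  haveI : IsMonHom uk := inferInstanceAs (IsMonHom ((Over.pullback i).map u))
  haveI : Mono uk := inferInstanceAs (Mono ((Over.pullback i).map u))
  haveI : LocallyOfFiniteType Fk.hom := inferInstanceAs (LocallyOfFiniteType (pullback.snd F.hom i))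
  haveI : LocallyOfFiniteType Gk.hom := inferInstanceAs (LocallyOfFiniteType (pullback.snd G.hom i))
  haveI : LocallyOfFiniteType Xk.hom := inferInstanceAs (LocallyOfFiniteType (pullback.snd X.hom i))
  have hpk : IsFppf pk := by
    have hsq : IsPullback (pullback.fst G.hom i) pk.left p.left (pullback.fst X.hom i) := by
      refine IsPullback.of_bot ?_ ?_ (IsPullback.of_hasPullback X.hom i)
      · have e : pk.left ≫ pullback.snd X.hom i = pullback.snd G.hom i := Over.w pk
        rw [e, Over.w p]
        exact IsPullback.of_hasPullback G.hom i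
      · exact (pullback.lift_fst _ _ _).symm
    exact ⟨MorphismProperty.of_isPullback hsq hp.surj, MorphismProperty.of_isPullback hsq hp.flat,
      MorphismProperty.of_isPullback hsq hp.lfp⟩
  have hker : ∀ {Z : Over (Spec (CommRingCat.of (IsLocalRing.ResidueField A)))} (z z' : Z ⟶ Gk),
      z ≫ pk = z' ≫ pk ↔ ∃ f : Z ⟶ Fk, (f ≫ uk) * z = z' := by
    intro Z z z'
    rw [← ((Over.mapPullbackAdj i).homEquiv Z X).symm.injective.eq_iff]
    show ((Over.mapPullbackAdj i).homEquiv Z X).symm (z ≫ (Over.pullback i).map p) =
      ((Over.mapPullbackAdj i).homEquiv Z X).symm (z' ≫ (Over.pullback i).map p) ↔ _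
    rw [symm_comp, symm_comp]
    show fl i G z ≫ p = fl i G z' ≫ p ↔ _
    rw [quotient_kernel u hpb]
    constructor
    · rintro ⟨f, hf⟩
      obtain ⟨f₀, rfl⟩ := fl_surjective i F (T := Z) f
      refine ⟨f₀, fl_injective i G ?_⟩
      rw [fl_mul, fl_comp_map, hf]
    · rintro ⟨f, rfl⟩
      exact ⟨fl i F f, by rw [fl_mul, fl_comp_map]⟩
  have hpbk := isPullback_of_kernel uk hker
  -- the homeomorphisms
  have hh : ∀ (Y : Over (Spec (CommRingCat.of A))),
      ∃ e : ↥((Over.pullback i).obj Y).left ≃ₜ ↥Y.left, ∀ z, e z = pullback.fst Y.hom i z := fun Y => by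
    haveI h1 : IsClosedImmersion (pullback.fst Y.hom i) := MorphismProperty.pullback_fst Y.hom i ‹IsClosedImmersion i›
    haveI h2 : Surjective (pullback.fst Y.hom i) := MorphismProperty.pullback_fst Y.hom i ‹Surjective i›
    exact ⟨(pullback.fst Y.hom i).isClosedEmbedding.isEmbedding.toHomeomorphOfSurjective
      (pullback.fst Y.hom i).surjective, fun z => rfl⟩
  obtain ⟨eX, -⟩ := hh X
  obtain ⟨eG, -⟩ := hh G
  obtain ⟨eF, -⟩ := hh F
  obtain ⟨y, rfl⟩ := eX.surjective x
  obtain ⟨h1, h2, h3⟩ := component_quotient uk hpk hpbk y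
  have hcc : eX '' connectedComponent y = connectedComponent (eX y) := by
    have h := eX.image_connectedComponentIn (Set.mem_univ y)
    rwa [connectedComponentIn_univ, Set.image_univ_of_surjective eX.surjective, connectedComponentIn_univ] at h
  rw [← hcc]
  refine ⟨h1.image eX eX.continuous.continuousOn, h2.image eX.continuous, ?_⟩
  rw [← (eX.image (connectedComponent y)).isHomeomorph.topologicalKrullDim_eq,
    ← eF.isHomeomorph.topologicalKrullDim_eq, ← eG.isHomeomorph.topologicalKrullDim_eq]
  exact h3

end Groth.Agent.QuotField20
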