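import Groth.Agent.Lib.AlgSpDescent.FppfComp
import Groth.Agent.Lib.H12.FlatComp
import Mathlib.AlgebraicGeometry.EffectiveEpi
import Mathlib.AlgebraicGeometry.Morphisms.Flat
import Mathlib.AlgebraicGeometry.Morphisms.FinitePresentation
import Mathlib.CategoryTheory.Monoidal.Cartesian.Over
import Groth.Prelude.Def_AlgGrp

/-!
# fppf morphisms in `Over S`
-/

universe u

set_option autoImplicit false
set_option linter.style.haveILetI false
set_option backward.isDefEq.respectTransparency.types false

open CategoryTheory CategoryTheory.Limits MonoidalCategory CartesianMonoidalCategory AlgebraicGeometry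

noncomputable section

namespace Groth.Agent.QuotField20

variable {S : Scheme.{u}}

/-- Flat, surjective and locally of finite presentation. -/
structure IsFppf {A B : Over S} (P : A ⟶ B) : Prop where
  surj : Surjective P.left
  flat : Flat P.left
  lfp : LocallyOfFinitePresentation P.left

variable {A B C W : Over S}

theorem IsFppf.comp {P : A ⟶ B} (hP : IsFppf P) {Q : B ⟶ C} (hQ : IsFppf Q) : IsFppf (P ≫ Q) := by
  haveI := hP.surj; haveI := hP.flat; haveI := hP.lfp
  haveI := hQ.surj; haveI := hQ.flat; haveI := hQ.lfp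
  exact ⟨inferInstanceAs (Surjective (P.left ≫ Q.left)), inferInstanceAs (Flat (P.left ≫ Q.left)),
    inferInstanceAs (LocallyOfFinitePresentation (P.left ≫ Q.left))⟩

theorem isPullback_whiskerRight_left (P : A ⟶ B) (T : Over S) :
    IsPullback (P ▷ T).left (fst A T).left (fst B T).left P.left := by
  have h2 : IsPullback (snd B T).left (fst B T).left T.hom B.hom := (IsPullback.of_hasPullback B.hom T.hom).flip
  have e : (P ▷ T).left ≫ (snd B T).left = (snd A T).left := by rw [← Over.comp_left, whiskerRight_snd]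
  have h1 : IsPullback ((P ▷ T).left ≫ (snd B T).left) (fst A T).left T.hom (P.left ≫ B.hom) := by
    rw [e, Over.w P]
    exact (IsPullback.of_hasPullback A.hom T.hom).flip
  exact IsPullback.of_right h1 (by rw [← Over.comp_left, whiskerRight_fst, Over.comp_left]) h2

theorem IsFppf.whiskerRight {P : A ⟶ B} (hP : IsFppf P) (T : Over S) : IsFppf (P ▷ T) :=
  ⟨MorphismProperty.of_isPullback (isPullback_whiskerRight_left P T).flip hP.surj,
    MorphismProperty.of_isPullback (isPullback_whiskerRight_left P T).flip hP.flat,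
    MorphismProperty.of_isPullback (isPullback_whiskerRight_left P T).flip hP.lfp⟩

theorem isFppf_fst (A T : Over S) [Surjective T.hom] [Flat T.hom] [LocallyOfFinitePresentation T.hom] :
    IsFppf (fst A T) := by
  have h : IsPullback (fst A T).left (snd A T).left A.hom T.hom := IsPullback.of_hasPullback A.hom T.hom
  exact ⟨MorphismProperty.of_isPullback h.flip ‹Surjective T.hom›, MorphismProperty.of_isPullback h.flip ‹Flat T.hom›,
    MorphismProperty.of_isPullback h.flip ‹LocallyOfFinitePresentation T.hom›⟩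

theorem IsFppf.of_isPullback_left {P : A ⟶ B} {Q : C ⟶ W} {a : A.left ⟶ C.left} {b : B.left ⟶ W.left}
    (h : IsPullback P.left a b Q.left) (hQ : IsFppf Q) : IsFppf P :=
  ⟨MorphismProperty.of_isPullback h.flip hQ.surj, MorphismProperty.of_isPullback h.flip hQ.flat,
    MorphismProperty.of_isPullback h.flip hQ.lfp⟩

theorem IsFppf.of_comp_left {P : A ⟶ B} (hP : IsFppf P) {Q : B ⟶ C} (h : IsFppf (P ≫ Q)) : IsFppf Q := by
  haveI := hP.surj; haveI := hP.flat; haveI := hP.lfp
  haveI : Surjective (P.left ≫ Q.left) := h.surj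
  haveI : Flat (P.left ≫ Q.left) := h.flat
  haveI : LocallyOfFinitePresentation (P.left ≫ Q.left) := h.lfp
  exact ⟨Surjective.of_comp P.left Q.left, H12.flat_of_comp_of_surjective P.left Q.left,
    FppfSource.locallyOfFinitePresentation_of_fppf_comp P.left Q.left⟩

theorem IsFppf.epi {P : A ⟶ B} (hP : IsFppf P) : Epi P := by
  haveI := hP.surj; haveI := hP.flat
  haveI := Flat.epi_of_flat_of_surjective P.left
  exact Over.epi_of_epi_left P

/-- Descent of morphisms along an fppf morphism. -/
theorem IsFppf.exists_desc {P : A ⟶ B} (hP : IsFppf P) (c : A ⟶ W)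
    (h : ∀ {Z : Over S} (a b : Z ⟶ A), a ≫ P = b ≫ P → a ≫ c = b ≫ c) : ∃ m : B ⟶ W, P ≫ m = c := by
  haveI := hP.surj; haveI := hP.flat; haveI := hP.lfp
  have hh : ∀ {Z : Scheme.{u}} (g₁ g₂ : Z ⟶ A.left), g₁ ≫ P.left = g₂ ≫ P.left → g₁ ≫ c.left = g₂ ≫ c.left := by
    intro Z g₁ g₂ hg
    have hy : g₂ ≫ A.hom = g₁ ≫ A.hom := by
      rw [← Over.w P, ← Category.assoc, ← hg, Category.assoc]
    exact congrArg CommaMorphism.left
      (h (Over.homMk g₁ rfl : Over.mk (g₁ ≫ A.hom) ⟶ A) (Over.homMk g₂ hy) (Over.OverMorphism.ext hg))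
  let m : B.left ⟶ W.left := EffectiveEpi.desc P.left c.left fun g₁ g₂ hg => hh g₁ g₂ hg
  have hm : P.left ≫ m = c.left := EffectiveEpi.fac _ _ _
  refine ⟨Over.homMk m ?_, Over.OverMorphism.ext hm⟩
  haveI := Flat.epi_of_flat_of_surjective P.left
  rw [← cancel_epi P.left, reassoc_of% hm, Over.w, Over.w]

/-- An open subscheme over `S`. -/
abbrev sub (X : Over S) (O : X.left.Opens) : Over S := Over.mk (O.ι ≫ X.hom)

/-- The inclusion of an open subscheme over `S`. -/
abbrev inc (X : Over S) (O : X.left.Opens) : sub X O ⟶ X := Over.homMk O.ι rfl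

instance mono_inc (X : Over S) (O : X.left.Opens) : Mono (inc X O) :=
  haveI : Mono (inc X O).left := inferInstanceAs (Mono O.ι)
  Over.mono_of_mono_left _

theorem exists_lift_inc (X : Over S) (O : X.left.Opens) {Z : Over S} (f : Z ⟶ X)
    (h : ∀ z, f.left z ∈ O) : ∃ g : Z ⟶ sub X O, g ≫ inc X O = f := by
  let g := IsOpenImmersion.lift O.ι f.left (by rintro _ ⟨z, rfl⟩; rw [Scheme.Opens.range_ι]; exact h z)
  refine ⟨Over.homMk g ?_, Over.OverMorphism.ext (IsOpenImmersion.lift_fac _ _ _)⟩
  show g ≫ O.ι ≫ X.hom = Z.hom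
  rw [IsOpenImmersion.lift_fac_assoc, Over.w]

theorem left_comp_apply {A B C : Over S} (f : A ⟶ B) (g : B ⟶ C) (p : A.left) :
    (f ≫ g).left p = g.left (f.left p) :=
  Scheme.Hom.comp_apply _ _ _

end Groth.Agent.QuotField20
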