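import Groth.Agent.Lib.GrpQuot.Restrict
import Groth.Agent.Lib.GrpdDense19.Main
import Mathlib.AlgebraicGeometry.Morphisms.QuasiFinite

/-!
# Restricting a groupoid scheme to an open (not nec. invariant)
-/

set_option autoImplicit false
set_option linter.style.haveILetI false
set_option backward.isDefEq.respectTransparency.types false
universe u

open CategoryTheory CategoryTheory.Limits AlgebraicGeometry

noncomputable section

namespace Groth.Agent.QuotField20

open Groth.Agent.GrpdB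

variable {S : Scheme.{u}} (G : Grpd.GroupoidScheme S) (V : G.U.Opens)

/-- The arrows between points of `V`. -/
abbrev arrOpen : G.R.Opens := G.s ⁻¹ᵁ V ⊓ G.t ⁻¹ᵁ V

/-- Source on the arrows between points of `V`. -/
def sV : (arrOpen G V).toScheme ⟶ V.toScheme := G.s.resLE V (arrOpen G V) inf_le_left

/-- Target on the arrows between points of `V`. -/
def tV : (arrOpen G V).toScheme ⟶ V.toScheme := G.t.resLE V (arrOpen G V) inf_le_right

@[reassoc]
theorem sV_ι : sV G V ≫ V.ι = (arrOpen G V).ι ≫ G.s := Scheme.Hom.resLE_comp_ι _ _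

@[reassoc]
theorem tV_ι : tV G V ≫ V.ι = (arrOpen G V).ι ≫ G.t := Scheme.Hom.resLE_comp_ι _ _

/-- An arrow between points of `V`. -/
def liftV {T : Scheme.{u}} (f : T ⟶ G.R) (hs : ∀ z, G.s (f z) ∈ V) (ht : ∀ z, G.t (f z) ∈ V) :
    T ⟶ (arrOpen G V).toScheme :=
  IsOpenImmersion.lift (arrOpen G V).ι f (by
    rintro _ ⟨z, rfl⟩
    rw [Scheme.Opens.range_ι]
    exact ⟨hs z, ht z⟩)

@[reassoc]
theorem liftV_ι {T : Scheme.{u}} (f : T ⟶ G.R) (hs : ∀ z, G.s (f z) ∈ V) (ht : ∀ z, G.t (f z) ∈ V) :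
    liftV G V f hs ht ≫ (arrOpen G V).ι = f := IsOpenImmersion.lift_fac _ _ _

theorem condV {T : Scheme.{u}} {α β : T ⟶ (arrOpen G V).toScheme} (h : α ≫ sV G V = β ≫ tV G V) :
    (α ≫ (arrOpen G V).ι) ≫ G.s = (β ≫ (arrOpen G V).ι) ≫ G.t := by
  rw [Category.assoc, Category.assoc, ← sV_ι, ← tV_ι, ← Category.assoc, h, Category.assoc]

theorem mem_of_comp {T : Scheme.{u}} (f : T ⟶ G.U) (g : T ⟶ V.toScheme) (h : f = g ≫ V.ι) (z : T) : f z ∈ V := by
  rw [h, Scheme.Hom.comp_apply]; exact (g z).2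

/-- Composition of arrows between points of `V`. -/
def cV : pullback (sV G V) (tV G V) ⟶ (arrOpen G V).toScheme :=
  liftV G V (cmp G (pullback.fst _ _ ≫ (arrOpen G V).ι) (pullback.snd _ _ ≫ (arrOpen G V).ι)
    (condV G V pullback.condition))
    (fun z => by
      rw [← Scheme.Hom.comp_apply]
      exact mem_of_comp G V _ (pullback.snd (sV G V) (tV G V) ≫ sV G V)
        (by rw [cmp_s, Category.assoc, Category.assoc, sV_ι]) z)
    (fun z => by
      rw [← Scheme.Hom.comp_apply]
      exact mem_of_comp G V _ (pullback.fst (sV G V) (tV G V) ≫ tV G V)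
        (by rw [cmp_t, Category.assoc, Category.assoc, tV_ι]) z)

theorem cV_ι {T : Scheme.{u}} (α β : T ⟶ (arrOpen G V).toScheme) (h : α ≫ sV G V = β ≫ tV G V) :
    (pullback.lift α β h ≫ cV G V) ≫ (arrOpen G V).ι =
      cmp G (α ≫ (arrOpen G V).ι) (β ≫ (arrOpen G V).ι) (condV G V h) := by
  rw [Category.assoc, cV, liftV_ι, comp_cmp]
  exact cmp_congr (by rw [← Category.assoc, pullback.lift_fst]) (by rw [← Category.assoc, pullback.lift_snd]) _

/-- The identities over `V`. -/
def eV : V.toScheme ⟶ (arrOpen G V).toScheme :=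
  liftV G V (V.ι ≫ G.e)
    (fun z => by rw [← Scheme.Hom.comp_apply, Category.assoc, G.e_s, Category.comp_id]; exact z.2)
    (fun z => by rw [← Scheme.Hom.comp_apply, Category.assoc, G.e_t, Category.comp_id]; exact z.2)

/-- The inverse over `V`. -/
def iV : (arrOpen G V).toScheme ⟶ (arrOpen G V).toScheme :=
  liftV G V ((arrOpen G V).ι ≫ G.i)
    (fun z => by
      rw [← Scheme.Hom.comp_apply]
      exact mem_of_comp G V _ (tV G V) (by rw [Category.assoc, G.i_s, tV_ι]) z)
    (fun z => by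
      rw [← Scheme.Hom.comp_apply]
      exact mem_of_comp G V _ (sV G V) (by rw [Category.assoc, G.i_t, sV_ι]) z)

theorem eV_ι : eV G V ≫ (arrOpen G V).ι = V.ι ≫ G.e := liftV_ι _ _ _ _ _

theorem iV_ι : iV G V ≫ (arrOpen G V).ι = (arrOpen G V).ι ≫ G.i := liftV_ι _ _ _ _ _

/-- The restriction of `G` to the open `V`. -/
def openRestr : Grpd.GroupoidScheme S where
  U := V.toScheme
  R := (arrOpen G V).toScheme
  pU := V.ι ≫ G.pU
  pR := (arrOpen G V).ι ≫ G.pR
  s := sV G V
  t := tV G V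
  e := eV G V
  i := iV G V
  c := cV G V
  s_over := by rw [sV_ι_assoc, G.s_over]
  t_over := by rw [tV_ι_assoc, G.t_over]
  comp_s α β h := by
    rw [← cancel_mono V.ι, Category.assoc, Category.assoc β, sV_ι, ← Category.assoc, cV_ι, cmp_s, Category.assoc]
  comp_t α β h := by
    rw [← cancel_mono V.ι, Category.assoc, Category.assoc α, tV_ι, ← Category.assoc, cV_ι, cmp_t, Category.assoc]
  assoc α β γ h₁ h₂ := by
    rw [← cancel_mono (arrOpen G V).ι]
    refine (cV_ι G V _ _ _).trans (Eq.trans ?_ (cV_ι G V _ _ _).symm)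
    exact (cmp_congr (cV_ι G V α β h₁) rfl _).trans
      ((cmp_assoc _ _ _ (condV G V h₁) (condV G V h₂)).trans (cmp_congr rfl (cV_ι G V β γ h₂).symm _))
  e_s := by rw [← cancel_mono V.ι, Category.assoc, sV_ι, ← Category.assoc, eV_ι, Category.assoc, G.e_s,
    Category.id_comp, Category.comp_id]
  e_t := by rw [← cancel_mono V.ι, Category.assoc, tV_ι, ← Category.assoc, eV_ι, Category.assoc, G.e_t,
    Category.id_comp, Category.comp_id]
  comp_e α := by
    rw [← cancel_mono (arrOpen G V).ι, cV_ι]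
    refine (cmp_congr rfl (?_ : _ = (α ≫ (arrOpen G V).ι) ≫ G.s ≫ G.e) _).trans (G.comp_e _)
    rw [Category.assoc, Category.assoc, eV_ι, Category.assoc, ← sV_ι_assoc]
  e_comp α := by
    rw [← cancel_mono (arrOpen G V).ι, cV_ι]
    refine (cmp_congr (?_ : _ = (α ≫ (arrOpen G V).ι) ≫ G.t ≫ G.e) rfl _).trans (G.e_comp _)
    rw [Category.assoc, Category.assoc, eV_ι, Category.assoc, ← tV_ι_assoc]
  i_s := by rw [← cancel_mono V.ι, Category.assoc, sV_ι, ← Category.assoc, iV_ι, Category.assoc, G.i_s, tV_ι]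
  i_t := by rw [← cancel_mono V.ι, Category.assoc, tV_ι, ← Category.assoc, iV_ι, Category.assoc, G.i_t, sV_ι]
  comp_i α := by
    rw [← cancel_mono (arrOpen G V).ι, cV_ι]
    refine (cmp_congr rfl (?_ : _ = (α ≫ (arrOpen G V).ι) ≫ G.i) _).trans ((G.comp_i _).trans ?_)
    · rw [Category.assoc, iV_ι, Category.assoc]
    · rw [Category.assoc, Category.assoc, Category.assoc, eV_ι, ← tV_ι_assoc]
  i_comp α := by
    rw [← cancel_mono (arrOpen G V).ι, cV_ι]
    refine (cmp_congr (?_ : _ = (α ≫ (arrOpen G V).ι) ≫ G.i) rfl _).trans ((G.i_comp _).trans ?_)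
    · rw [Category.assoc, iV_ι, Category.assoc]
    · rw [Category.assoc, Category.assoc, Category.assoc, eV_ι, ← sV_ι_assoc]

instance flat_openRestr [Flat G.s] : Flat (openRestr G V).s := by
  show Flat (G.s.resLE V (arrOpen G V) inf_le_left)
  infer_instance

instance lft_openRestr [LocallyOfFiniteType G.s] : LocallyOfFiniteType (openRestr G V).s := by
  show LocallyOfFiniteType (G.s.resLE V (arrOpen G V) inf_le_left)
  infer_instance

theorem mono_j_openRestr [Mono G.j] : Mono (openRestr G V).j := by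
  haveI : Mono (arrOpen G V).ι := inferInstance
  refine ⟨fun {T} x y h => ?_⟩
  let x' : T ⟶ (arrOpen G V).toScheme := x
  let y' : T ⟶ (arrOpen G V).toScheme := y
  have ht : x' ≫ tV G V = y' ≫ tV G V := by
    have := congrArg (· ≫ pullback.fst (openRestr G V).pU (openRestr G V).pU) h
    simp only [Category.assoc, Grpd.GroupoidScheme.j, pullback.lift_fst] at this
    exact this
  have hs : x' ≫ sV G V = y' ≫ sV G V := by
    have := congrArg (· ≫ pullback.snd (openRestr G V).pU (openRestr G V).pU) h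
    simp only [Category.assoc, Grpd.GroupoidScheme.j, pullback.lift_snd] at this
    exact this
  show x' = y'
  rw [← cancel_mono (arrOpen G V).ι]
  refine GrpQuot.hom_ext_of_mono_j ?_ ?_
  · rw [Category.assoc, Category.assoc, ← tV_ι, reassoc_of% ht]
  · rw [Category.assoc, Category.assoc, ← sV_ι, reassoc_of% hs]

theorem lqf_of_mono {X Y : Scheme.{u}} (f : X ⟶ Y) [LocallyOfFiniteType f] [Mono f] : LocallyQuasiFinite f := by
  haveI : UniversallyInjective f := by
    rw [UniversallyInjective.iff_diagonal]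
    exact inferInstance
  infer_instance

/-- The arrows of a compact open are compact. -/
theorem compactSpace_arrOpen [QuasiCompact G.j] [QuasiCompact (V.ι ≫ G.pU)] [CompactSpace S] :
    CompactSpace (openRestr G V).R := by
  haveI : CompactSpace V.toScheme := QuasiCompact.compactSpace_of_compactSpace (V.ι ≫ G.pU)
  haveI : QuasiCompact (pullback.fst (V.ι ≫ G.pU) (V.ι ≫ G.pU)) := MorphismProperty.pullback_fst _ _ inferInstance
  haveI : CompactSpace ↥(pullback (V.ι ≫ G.pU) (V.ι ≫ G.pU)) :=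
    QuasiCompact.compactSpace_of_compactSpace (pullback.fst (V.ι ≫ G.pU) (V.ι ≫ G.pU))
  let W : (pullback G.pU G.pU).Opens := pullback.fst G.pU G.pU ⁻¹ᵁ V ⊓ pullback.snd G.pU G.pU ⁻¹ᵁ V
  have hW : IsCompact (W : Set ↥(pullback G.pU G.pU)) := by
    let m := pullback.map (V.ι ≫ G.pU) (V.ι ≫ G.pU) G.pU G.pU V.ι V.ι (𝟙 S) (Category.comp_id _) (Category.comp_id _)
    have he : (W : Set ↥(pullback G.pU G.pU)) = Set.range m := by
      rw [Scheme.Pullback.range_map]
      simp only [Scheme.Opens.range_ι]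
      rfl
    rw [he]
    exact isCompact_range m.continuous
  have h := G.j.isCompact_preimage hW
  have he : (G.j ⁻¹ᵁ W) = arrOpen G V := by
    have h1 : G.j ⁻¹ᵁ (pullback.fst G.pU G.pU ⁻¹ᵁ V) = G.t ⁻¹ᵁ V := by
      rw [← Scheme.Hom.comp_preimage]
      exact congrArg (· ⁻¹ᵁ V) (pullback.lift_fst _ _ _)
    have h2 : G.j ⁻¹ᵁ (pullback.snd G.pU G.pU ⁻¹ᵁ V) = G.s ⁻¹ᵁ V := by
      rw [← Scheme.Hom.comp_preimage]
      exact congrArg (· ⁻¹ᵁ V) (pullback.lift_snd _ _ _)
    show G.j ⁻¹ᵁ W = _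
    rw [Scheme.Hom.preimage_inf, h1, h2, inf_comm]
  rw [he] at h
  exact isCompact_iff_compactSpace.1 h

end Groth.Agent.QuotField20
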